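import Cfsg.Agent.Lib.Involutions.RankOne.PGU3.Count
import Cfsg.Agent.Lib.Involutions.RankOne.U3.Bridge
import Cfsg.Agent.Lib.Involutions.RankOne.U3.Coordinates
import Cfsg.Agent.Lib.Involutions.RankOne.U3.Local
import Cfsg.Agent.Lib.Involutions.SylowPSUThree

/-!
# Groups with the involution centraliser of `PGU₃(q)`: the split rank-one setting

`G` acts on the cosets of `N(P)` as in the setting of the unitary branch, with `|W| = q + 1`; so `P` has
coordinates in which an involution `u ∉ N(P)` is the map of the unital.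
-/

set_option autoImplicit false
set_option linter.unusedSectionVars false
set_option linter.style.haveILetI false

namespace Cfsg.Agent.Involutions.RankOne.PGU3

open Subgroup Involutions.Basic

universe u v

variable {G : Type u} [Group G] [Finite G] {n : ℕ} (P : Sylow 2 G)

local notation "HH" => Subgroup.normalizer ((P : Subgroup G) : Set G)
local notation "pt0" => ((1 : G) : G ⧸ Subgroup.normalizer ((P : Subgroup G) : Set G))

theorem stab_pt0 : MulAction.stabilizer G pt0 = HH := by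
  ext g
  rw [MulAction.mem_stabilizer_iff, smul_pt0]

theorem stab_inf {u : G} : MulAction.stabilizer G pt0 ⊓ MulAction.stabilizer G (u • pt0) = Dgrp P u := by
  rw [stab_pt0, Dgrp]

variable {u : G} (hu : orderOf u = 2) (huH : u ∉ Subgroup.normalizer ((P : Subgroup G) : Set G)) (hG : Hyp G n)
include P hu huH hG

theorem card_D_eq : Nat.card (Dgrp P u) = (2 ^ n - 1) * (2 ^ n + 1) := by
  obtain ⟨s, hs, hsP⟩ := exists_inv hG P
  rw [card_D P hu huH hG hs hsP, card_E P hu huH hG hs hsP]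

theorem card_points_eq : Nat.card (G ⧸ HH) = (2 ^ n) ^ 3 + 1 := by
  obtain ⟨M, hN, hM⟩ := points_mul P hu huH hG
  have hq := four_le hG.two_le
  have hpos : 0 < (2 ^ n - 1) * (2 ^ n + 1) := Nat.mul_pos (by omega) (by omega)
  rw [card_D_eq P hu huH hG, card_normalizer hG P] at hM
  have : M = (2 ^ n) ^ 3 := Nat.eq_of_mul_eq_mul_right hpos (by rw [hM]; ring)
  rw [hN, this]

theorem card_G_eq :
    Nat.card G = ((2 ^ n) ^ 3 + 1) * ((2 ^ n - 1) * ((2 ^ n) ^ 3 * (2 ^ n + 1))) := by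
  rw [← card_normalizer hG P, ← card_points_eq P hu huH hG]
  exact Subgroup.card_eq_card_quotient_mul_card_subgroup _

theorem faithful : FaithfulSMul G (G ⧸ HH) := by
  classical
  suffices h : ∀ x : G, (∀ c : G ⧸ HH, x • c = c) → x = 1 by
    refine ⟨fun {x y} e => ?_⟩
    have := h (y⁻¹ * x) fun c => by rw [mul_smul, e c, inv_smul_smul]
    exact (inv_mul_eq_one.1 this).symm
  intro x hx
  by_contra hx1
  obtain ⟨s, hs, hsP⟩ := exists_inv hG P
  have hxD : x ∈ Dgrp P u := (mem_Dgrp P).2 ⟨hx _, hx _⟩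
  have hq := four_le hG.two_le
  have hN := card_points_eq P hu huH hG
  have hcube : 2 ^ n < (2 ^ n) ^ 3 := by
    calc 2 ^ n = (2 ^ n) ^ 1 := (pow_one _).symm
      _ < (2 ^ n) ^ 3 := Nat.pow_lt_pow_right (by omega) (by norm_num)
  by_cases hxC : x ∈ Subgroup.centralizer ({s} : Set G)
  · obtain ⟨m, h1, h2, -⟩ :=
      fix_count P hu huH hG hs hsP (Subgroup.mem_inf.2 ⟨hxD, hxC⟩) hx1
    rw [card_E P hu huH hG hs hsP] at h2
    have hm : m = 2 ^ n := Nat.eq_of_mul_eq_mul_right (Nat.succ_pos _) h2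
    rw [Nat.card_congr (Equiv.subtypeUnivEquiv hx), hN, hm] at h1
    omega
  · set k := x ^ (2 ^ n + 1) with hk
    have hk1 : k ≠ 1 := fun e => hxC ((mem_cent_iff P hu huH hG hs hsP hxD).2 e)
    have hkp : k ^ (2 ^ n - 1) = 1 := by
      have h1 := congrArg Subtype.val (pow_card_eq_one' (x := (⟨x, hxD⟩ : Dgrp P u)))
      rw [card_D_eq P hu huH hG] at h1
      rw [hk, ← pow_mul, mul_comm]
      exact h1
    have hkfix : ∀ c : G ⧸ HH, k • c = c := fun c =>
      MulAction.mem_stabilizer_iff.1 (pow_mem (MulAction.mem_stabilizer_iff.2 (hx c)) _)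
    have hne : u • pt0 ≠ pt0 := fun e => huH ((smul_pt0 P).1 e)
    have hle : Nat.card (G ⧸ HH) ≤ 2 := by
      haveI := Fintype.ofFinite (G ⧸ HH)
      rw [Nat.card_eq_fintype_card, ← Finset.card_univ]
      refine (Finset.card_le_card (t := {pt0, u • pt0}) fun c _ => ?_).trans Finset.card_le_two
      rw [Finset.mem_insert, Finset.mem_singleton]
      refine or_iff_not_imp_left.2 fun hc => ?_
      exact fix_unique P hG hkp hk1 (hkfix _) hc hne (hkfix _) (hkfix _)
    omega

theorem sylow_coprime : Nat.Coprime (Nat.card P) (Nat.card (Dgrp P u)) := by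
  rw [card_sylow hG P]
  exact ((Nat.coprime_two_left.2 (odd_D P hu huH hG)).pow_left n).pow_left 3

theorem setup : Cfsg.IsRankOneSetup G (G ⧸ HH) pt0 u (P : Subgroup G) where
  two_transitive := by
    have hne : u • pt0 ≠ pt0 := fun e => huH ((smul_pt0 P).1 e)
    have key : ∀ x y : G ⧸ HH, x ≠ y → ∃ g : G, g • pt0 = x ∧ g • u • pt0 = y := by
      intro x y hxy
      obtain ⟨g, rfl⟩ := QuotientGroup.mk_surjective x
      have hg : g • pt0 = (g : G ⧸ HH) := by
        show ((g * 1 : G) : G ⧸ HH) = _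
        rw [mul_one]
      obtain ⟨h, hh, e⟩ := transitive P hG hne (b' := g⁻¹ • y) fun e => hxy (by
        rw [inv_smul_eq_iff] at e
        rw [e, hg])
      refine ⟨g * h, ?_, ?_⟩
      · rw [mul_smul, (smul_pt0 P).2 hh, hg]
      · rw [mul_smul, e, smul_inv_smul]
    rw [MulAction.is_two_pretransitive_iff]
    intro x y x' y' h h'
    obtain ⟨g, g1, g2⟩ := key x y h
    obtain ⟨g', g1', g2'⟩ := key x' y' h'
    exact ⟨g' * g⁻¹, by rw [mul_smul, ← g1, inv_smul_smul, g1'],
      by rw [mul_smul, ← g2, inv_smul_smul, g2']⟩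
  mul_self := inv_sq_one hu
  ne_one := ne_one hu
  not_mem := fun h => huH (by rwa [stab_pt0] at h)
  le := by rw [stab_pt0]; exact Subgroup.le_normalizer
  conj_mem := fun h hh x hx => by
    rw [stab_pt0] at hh
    exact (Subgroup.mem_normalizer_iff.1 hh x).1 hx
  inf_eq_bot := by
    refine (Subgroup.eq_bot_iff_forall _).2 fun x hx => ?_
    obtain ⟨hxP, hx2⟩ := Subgroup.mem_inf.1 hx
    have hxD : x ∈ Dgrp P u := Subgroup.mem_inf.2 ⟨Subgroup.le_normalizer hxP, hx2⟩
    have h1 := orderOf_dvd_natCard (⟨x, hxP⟩ : (P : Subgroup G))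
    have h2 := orderOf_dvd_natCard (⟨x, hxD⟩ : Dgrp P u)
    rw [Subgroup.orderOf_mk] at h1 h2
    exact orderOf_eq_one_iff.1 (Nat.eq_one_of_dvd_coprimes (sylow_coprime P hu huH hG) h1 h2)
  sup_eq := by
    rw [stab_inf, stab_pt0]
    refine Subgroup.eq_of_le_of_card_ge (sup_le Subgroup.le_normalizer inf_le_left) ?_
    rw [card_normalizer hG P]
    refine Nat.le_of_dvd Nat.card_pos ?_
    have h := (sylow_coprime P hu huH hG).mul_dvd_of_dvd_of_dvd
      (Subgroup.card_dvd_of_le (le_sup_left : (P : Subgroup G) ≤ (P : Subgroup G) ⊔ Dgrp P u))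
      (Subgroup.card_dvd_of_le (le_sup_right : Dgrp P u ≤ (P : Subgroup G) ⊔ Dgrp P u))
    rw [card_sylow hG P, card_D_eq P hu huH hG] at h
    rwa [mul_left_comm]
  even_card := by
    rw [card_sylow hG P]
    exact (Nat.even_pow.2 ⟨even_two, by have := hG.two_le; omega⟩).pow_of_ne_zero three_ne_zero
  odd_card := by
    rw [stab_inf]
    exact odd_D P hu huH hG

theorem setting : U3.Setting G (G ⧸ HH) pt0 u (P : Subgroup G) n := by
  haveI : Fact (Nat.Prime 2) := ⟨Nat.prime_two⟩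
  obtain ⟨x, hx, hxP⟩ := exists_inv hG P
  obtain ⟨S, A, hd⟩ := hG.cent x hx
  have e := sylow_eq hG P hx hxP hd
  let eqv : S ≃* (P : Subgroup G) :=
    (S.equivMapOfInjective _ (Subgroup.subtype_injective _)).trans (MulEquiv.subgroupCongr e.symm)
  refine ⟨setup P hu huH hG, ?_, P.isPGroup', SylowPSUThree.isSuzukiTwoGroup_congr eqv hd.suzuki,
    hG.two_le, ?_, card_sylow hG P⟩
  · have hcard := card_involutions hG P
    have hq := four_le hG.two_le
    have : 1 < Nat.card {t : G // orderOf t = 2 ∧ t ∈ HH} := by rw [hcard]; omega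
    obtain ⟨⟨y, hy, hyH⟩, ⟨z, hz, hzH⟩, hne⟩ :=
      Finite.one_lt_card_iff_nontrivial.1 this |>.exists_pair_ne
    have hyP := inv_mem_sylow hG P hy hyH
    have hzP := inv_mem_sylow hG P hz hzH
    refine ⟨y, z, ne_one hy, ne_one hz, fun e => hne (Subtype.ext e), inv_sq_one hy,
      inv_sq_one hz, Subgroup.mem_centralizer_singleton_iff.1 ?_⟩
    rw [cent_eq hG P hz hzP hy hyP]
    exact Subgroup.mem_centralizer_singleton_iff.2 rfl
  · rw [← hd.card_center]
    exact Nat.card_congr (Subgroup.centerCongr eqv).toEquiv.symm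

theorem W_eq {s : G} (hs : orderOf s = 2) (hsP : s ∈ P) :
    U3.W pt0 u = Dgrp P u ⊓ Subgroup.centralizer ({s} : Set G) := by
  rw [U3.W, stab_inf]
  ext d
  constructor
  · intro h
    obtain ⟨⟨hd, hdu⟩, -⟩ := h
    exact ⟨hd, (comm_iff P hu huH hG hs hsP hd).1 (Subgroup.mem_centralizer_singleton_iff.1 hdu).symm⟩
  · rintro ⟨hd, hds⟩
    refine ⟨⟨hd, Subgroup.mem_centralizer_singleton_iff.2
      ((comm_iff P hu huH hG hs hsP hd).2 hds).symm⟩, ?_⟩
    exact Subgroup.mem_centralizer_iff.2 fun k hk => D_comm P hu huH hG hk.1 hd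

theorem card_W : Nat.card (U3.W pt0 u) = 2 ^ n + 1 := by
  obtain ⟨s, hs, hsP⟩ := exists_inv hG P
  rw [W_eq P hu huH hG hs hsP, card_E P hu huH hG hs hsP]

theorem W_ne : U3.W pt0 u ≠ ⊥ := fun e => by
  have h := card_W P hu huH hG
  rw [e, Subgroup.card_bot] at h
  have := four_le hG.two_le
  omega

/-- The frame and the coordinates of `P` in a given field with `q²` elements. -/
theorem exists_coords {F : Type v} [Field F] [Fintype F] (hF : Fintype.card F = (2 ^ n) ^ 2) :
    ∃ (F₀ : Type) (_ : Field F₀) (_ : Fintype F₀) (_ : CharP F₀ 2),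
      Nonempty (U3.Frame pt0 u (P : Subgroup G) n F₀) ∧
      ∃ e : ↥(P : Subgroup G) → F × F, U3.IsCoords n e ∧
        ∀ x y : (P : Subgroup G), x ≠ 1 → u • ((x : G) • (u • pt0)) = (y : G) • (u • pt0) →
          e y = ((e x).1 / (e x).2, ((e x).2)⁻¹) := by
  haveI := faithful P hu huH hG
  have hS := setting P hu huH hG
  have hW := W_ne P hu huH hG
  obtain ⟨F₀, iF, iT, iC, ⟨fr⟩⟩ := U3.exists_frame hS hW
  obtain ⟨ρ, hL⟩ := U3.localFacts.{u, u} hS hW fr
  obtain ⟨e, he, hf⟩ := U3.bridge U3.coordinates.{u, 0} hS hW fr ρ hL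
    (show 2 ^ n + 1 ∣ 3 * Nat.card (U3.W pt0 u) by
      rw [card_W P hu huH hG]; exact dvd_mul_left _ _)
  let σ : F₀ ≃+* F := FiniteField.ringEquivOfCardEq (by rw [fr.card_F, hF])
  refine ⟨F₀, iF, iT, iC, ⟨fr⟩, fun x => (σ (e x).1, σ (e x).2), ⟨?_, ?_, ?_, ?_⟩, ?_⟩
  · intro x y h
    exact he.injective (Prod.ext (σ.injective (congrArg Prod.fst h))
      (σ.injective (congrArg Prod.snd h)))
  · intro x
    show σ (e x).2 + σ (e x).2 ^ (2 ^ n) = σ (e x).1 ^ (2 ^ n + 1)
    rw [← map_pow, ← map_pow, ← map_add]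
    exact congrArg σ (he.mem x)
  · rintro ⟨a, b⟩ hp
    obtain ⟨x, hx⟩ := he.surj (σ.symm a, σ.symm b) (by
      show σ.symm b + σ.symm b ^ (2 ^ n) = σ.symm a ^ (2 ^ n + 1)
      rw [← map_pow, ← map_pow, ← map_add]
      exact congrArg σ.symm hp)
    exact ⟨x, by simp [hx]⟩
  · intro x y
    simp [he.map_mul, U3.hMul]
  · intro x y hx h
    simp [hf x y hx h]

end Cfsg.Agent.Involutions.RankOne.PGU3
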