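import Cfsg.Agent.Lib.Involutions.RankOne.PGU3.Transitive
import Cfsg.Agent.Solvable.Thompson
import Cfsg.Agent.Lib.CN.Basic

/-!
# Groups with the involution centraliser of `PGU₃(q)`, `q` even: the two-point stabiliser has order `q² - 1`

`E = D ∩ C(s)` of order `e` is not trivial, since `C(s)` is not nilpotent.  A non-trivial `a ∈ E` fixes
`f = 1 + q r` points, `e r = q + 1`; then `|C(a)|` divides `|G|` only for `r = 1`.
-/

set_option autoImplicit false
set_option linter.unusedSectionVars false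
set_option linter.style.haveILetI false

namespace Cfsg.Agent.Involutions.RankOne.PGU3

open Subgroup Involutions.Basic

universe u

section Orbit

variable {X Y : Type*} [Group X] [MulAction X Y]

/-- The orbit-stabiliser theorem for a subgroup. -/
theorem card_orbit_mul (K : Subgroup X) (y : Y) :
    Nat.card (MulAction.orbit K y) * Nat.card ↥(K ⊓ MulAction.stabilizer X y) = Nat.card K := by
  have e2 : MulAction.stabilizer K y = (K ⊓ MulAction.stabilizer X y).subgroupOf K := by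
    ext g
    rw [MulAction.mem_stabilizer_iff, Subgroup.mem_subgroupOf, Subgroup.mem_inf,
      MulAction.mem_stabilizer_iff]
    exact ⟨fun e => ⟨g.2, e⟩, fun e => e.2⟩
  have e3 := Nat.card_congr (MulAction.orbitEquivQuotientStabilizer K y)
  have e4 := Subgroup.card_eq_card_quotient_mul_card_subgroup
    ((K ⊓ MulAction.stabilizer X y).subgroupOf K)
  rw [e2] at e3
  rw [← e3, Nat.card_congr (Subgroup.subgroupOfEquivOfLe inf_le_left).toEquiv] at e4
  exact e4.symm

/-- A set is a point and the rest. -/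
theorem card_erase_add [Finite Y] {s : Set Y} {y : Y} (hy : y ∈ s) :
    Nat.card s = Nat.card ↥(s \ {y}) + 1 := by
  rw [Nat.card_coe_set_eq, Nat.card_coe_set_eq, Set.ncard_sdiff_singleton_add_one hy s.toFinite]

end Orbit

variable {G : Type u} [Group G] [Finite G] {n : ℕ} (P : Sylow 2 G)

local notation "HH" => Subgroup.normalizer ((P : Subgroup G) : Set G)
local notation "pt0" => ((1 : G) : G ⧸ Subgroup.normalizer ((P : Subgroup G) : Set G))

/-- In `CentData` an element of `A ∖ 1` has centraliser of order `q (q + 1)`. -/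
theorem card_cent_A {q : ℕ} {C : Type*} [Group C] [Finite C] {S A : Subgroup C}
    (hd : CentData q S A) (hdis : ∀ c ∈ S, c ∈ A → c = 1) {b : C} (hb : b ∈ A) (hb1 : b ≠ 1) :
    Nat.card (Subgroup.centralizer ({b} : Set C)) = q * (q + 1) := by
  rw [← hd.card_A, ← hd.card_center, ← Nat.card_prod]
  haveI := hd.cyclic_A
  letI := (IsCyclic.commGroup : CommGroup A)
  have hA : ∀ x ∈ A, x * b = b * x := fun x hx =>
    congrArg Subtype.val (mul_comm (⟨x, hx⟩ : A) ⟨b, hb⟩)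
  have hZ : ∀ z : Subgroup.center S, ∀ c : C, ((z : S) : C) * c = c * (z : S) := fun z =>
    hd.involution _ (z : S).2 (hd.center_sq _ (z : S).2 fun y hy =>
      (congrArg Subtype.val (Subgroup.mem_center_iff.1 z.2 ⟨y, hy⟩)).symm)
  refine (Nat.card_eq_of_bijective (fun p : Subgroup.center S × A =>
    (⟨((p.1 : S) : C) * p.2, Subgroup.mem_centralizer_singleton_iff.2 ?_⟩ :
      Subgroup.centralizer ({b} : Set C))) ⟨fun p r e => ?_, fun c => ?_⟩).symm
  · rw [mul_assoc, hA _ p.2.2, ← mul_assoc, hZ, mul_assoc]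
  · have e' : ((p.1 : S) : C) * p.2 = ((r.1 : S) : C) * r.2 := congrArg Subtype.val e
    have h1 : ((r.1 : S) : C)⁻¹ * (p.1 : S) = (r.2 : C) * (p.2 : C)⁻¹ := by
      rw [eq_mul_inv_iff_mul_eq, mul_assoc, e', inv_mul_cancel_left]
    have h2 := hdis _ (mul_mem (inv_mem (r.1 : S).2) (p.1 : S).2)
      (h1 ▸ mul_mem r.2.2 (inv_mem p.2.2))
    refine Prod.ext (Subtype.ext (Subtype.ext (inv_mul_eq_one.1 h2).symm)) (Subtype.ext ?_)
    rw [h1, mul_inv_eq_one] at h2
    exact h2.symm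
  · obtain ⟨c, hc⟩ := c
    obtain ⟨v, hv, x, hx, rfl⟩ := hd.exists_mul c
    have hvb : v * b = b * v := by
      have h1 := Subgroup.mem_centralizer_singleton_iff.1 hc
      refine mul_right_cancel (b := x) ?_
      calc v * b * x = v * x * b := by rw [mul_assoc, ← hA x hx, mul_assoc]
        _ = b * (v * x) := h1
        _ = _ := by group
    exact ⟨(⟨⟨v, hv⟩, Subgroup.mem_center_iff.2 fun y => Subtype.ext
      (hd.involution v hv (hd.fpf b hb hb1 v hv hvb) y).symm⟩, ⟨x, hx⟩), rfl⟩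

variable {u : G} (hu : orderOf u = 2) (huH : u ∉ Subgroup.normalizer ((P : Subgroup G) : Set G)) (hG : Hyp G n)
include hu huH hG

/-- `N(P)` has `|H| / |D|` other points. -/
theorem points_mul :
    ∃ M, Nat.card (G ⧸ HH) = M + 1 ∧ M * Nat.card (Dgrp P u) = Nat.card HH := by
  classical
  refine ⟨Nat.card ↥((Set.univ : Set (G ⧸ HH)) \ {pt0}), ?_, ?_⟩
  · rw [← card_erase_add (Set.mem_univ _), Nat.card_congr (Equiv.Set.univ _)]
  · have hne : u • pt0 ≠ pt0 := fun e => huH ((smul_pt0 P).1 e)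
    have e1 : MulAction.orbit HH (u • pt0) = (Set.univ : Set (G ⧸ HH)) \ {pt0} := by
      ext c
      constructor
      · rintro ⟨⟨g, hg⟩, rfl⟩
        exact ⟨Set.mem_univ _, fun e => hne (smul_left_cancel g
          ((Set.mem_singleton_iff.1 e).trans ((smul_pt0 P).2 hg).symm))⟩
      · rintro ⟨-, hc⟩
        obtain ⟨g, hg, e⟩ := transitive P hG hne hc
        exact ⟨⟨g, hg⟩, e⟩
    rw [← card_orbit_mul HH (u • pt0)]
    erw [e1]
    rfl

/-- `E ≠ 1`. -/
theorem E_ne_bot {s : G} (hs : orderOf s = 2) (hsP : s ∈ P) :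
    Dgrp P u ⊓ Subgroup.centralizer ({s} : Set G) ≠ ⊥ := by
  intro hbot
  classical
  set CS := Subgroup.centralizer ({s} : Set G) with hCS
  obtain ⟨S, A, hd⟩ : ∃ S A : Subgroup CS, CentData (2 ^ n) S A := hG.cent s hs
  have hcardD : Nat.card (Dgrp P u) = 2 ^ n - 1 := by
    rw [card_D P hu huH hG hs hsP, ← hCS, hbot, Subgroup.card_bot, mul_one]
  have hq := four_le hG.two_le
  set p := (2 ^ n - 1).minFac
  have hp : p.Prime := Nat.minFac_prime (by omega)
  haveI := Fact.mk hp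
  obtain ⟨⟨k, hk⟩, hkp⟩ := exists_prime_orderOf_dvd_card' (G := Dgrp P u) p
    (by rw [hcardD]; exact Nat.minFac_dvd _)
  rw [Subgroup.orderOf_mk] at hkp
  have hk1 : k ≠ 1 := fun e => by
    rw [e, orderOf_one] at hkp
    exact hp.one_lt.ne hkp
  have hkpow : k ^ (2 ^ n - 1) = 1 := by
    have h := congrArg Subtype.val (pow_card_eq_one' (x := (⟨k, hk⟩ : Dgrp P u)))
    rw [hcardD] at h
    exact h
  obtain ⟨hk0, hkb⟩ := (mem_Dgrp P).1 hk
  -- conjugation by `k` on `C(s)`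
  let c1 : CS → CS := fun x => ⟨k * x * k⁻¹, conj_mem_cent hG P hs hsP hk.1 x.2⟩
  let c2 : CS → CS := fun x => ⟨k⁻¹ * x * k, by
    simpa using conj_mem_cent hG P hs hsP (inv_mem hk.1) x.2⟩
  let φ : MulAut CS :=
    { toFun := c1
      invFun := c2
      left_inv := fun x => Subtype.ext (show k⁻¹ * (k * x * k⁻¹) * k = x by group)
      right_inv := fun x => Subtype.ext (show k * (k⁻¹ * x * k) * k⁻¹ = x by group)
      map_mul' := fun x y => Subtype.ext (show k * ((x : G) * y) * k⁻¹ = (k * x * k⁻¹) * (k * y * k⁻¹) by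
        group) }
  have hφ : ∀ (i : ℕ) (x : CS), ((φ ^ i) x : G) = k ^ i * x * (k ^ i)⁻¹ := fun i => by
    induction i with
    | zero => intro x; simp
    | succ i ih =>
      intro x
      rw [pow_succ, MulAut.mul_apply, ih, pow_succ]
      show k ^ i * (k * x * k⁻¹) * (k ^ i)⁻¹ = _
      group
  have hnil : Group.IsNilpotent CS := Solvable.Thompson.isNilpotent_of_fixedPointFree φ hp
    (fun x hx => by
      have hxk : k * (x : G) * k⁻¹ = x := congrArg Subtype.val hx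
      have hxk' : k * (x : G) = x * k := mul_inv_eq_iff_eq_mul.1 hxk
      have hxH : (x : G) ∈ HH := cent_le hG P hs hsP x.2
      have hne : u • pt0 ≠ pt0 := fun e => huH ((smul_pt0 P).1 e)
      have h1 : (x : G) • u • pt0 = u • pt0 := by
        refine fix_unique P hG hkpow hk1 hk0 (fun e => hne ?_) hne ?_ hkb
        · exact smul_left_cancel (x : G) (e.trans ((smul_pt0 P).2 hxH).symm)
        · rw [smul_smul, hxk', mul_smul, hkb]
      have hxE : (x : G) ∈ Dgrp P u ⊓ CS := ⟨(mem_Dgrp P).2 ⟨(smul_pt0 P).2 hxH, h1⟩, x.2⟩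
      rw [hbot, Subgroup.mem_bot] at hxE
      exact Subtype.ext hxE)
    (MulEquiv.ext fun x => Subtype.ext (by
      rw [hφ, show k ^ p = 1 by rw [← hkp]; exact pow_orderOf_eq_one k]
      simp))
  -- but `A` does not centralise `S`
  obtain ⟨x, y, hxy⟩ := hd.suzuki.2.2.1
  haveI : Fact (Nat.Prime 2) := ⟨Nat.prime_two⟩
  obtain ⟨b, hb, hb1⟩ : ∃ b ∈ A, b ≠ 1 := by
    refine Subgroup.ne_bot_iff_exists_ne_one.1 (fun e => ?_) |>.elim fun b hb =>
      ⟨b.1, b.2, fun e => hb (Subtype.ext e)⟩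
    have := hd.card_A
    rw [e, Subgroup.card_bot] at this
    omega
  have hall : ∀ v ∈ S, v * v = 1 := fun v hv => by
    refine hd.fpf b hb hb1 v hv ?_
    have hco : Nat.Coprime (orderOf v) (orderOf b) := by
      have h1 := orderOf_dvd_natCard (⟨v, hv⟩ : S)
      have h2 := orderOf_dvd_natCard (⟨b, hb⟩ : A)
      rw [Subgroup.orderOf_mk, hd.card_S] at h1
      rw [Subgroup.orderOf_mk, hd.card_A] at h2
      exact ((coprime_succ_pow hG.two_le 3).symm.coprime_dvd_left h1).coprime_dvd_right h2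
    exact (CN.commute_of_coprime_group (hH := hnil) v b hco).eq
  refine hxy (Subtype.ext ?_)
  have h1 := hall _ x.2
  have h2 := hall _ y.2
  have h3 := hall _ (x * y).2
  show (x : Subgroup.centralizer ({s} : Set G)) * y = y * x
  calc (x : Subgroup.centralizer ({s} : Set G)) * y
      = (x : Subgroup.centralizer ({s} : Set G))⁻¹ * (y : Subgroup.centralizer ({s} : Set G))⁻¹ := by
        rw [inv_eq_of_mul_eq_one_left h1, inv_eq_of_mul_eq_one_left h2]
    _ = (((y * x : S)) : Subgroup.centralizer ({s} : Set G))⁻¹ := by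
        rw [Subgroup.coe_mul, _root_.mul_inv_rev]
    _ = _ := by
        rw [inv_eq_of_mul_eq_one_left (hall _ (y * x).2), Subgroup.coe_mul]

/-- A non-identity element of `E` fixes `1 + q r` points, `e r = q + 1`, and `f ∣ |G| / (q (q² - 1))`. -/
theorem fix_count {s a : G} (hs : orderOf s = 2) (hsP : s ∈ P)
    (ha : a ∈ Dgrp P u ⊓ Subgroup.centralizer ({s} : Set G)) (ha1 : a ≠ 1) :
    ∃ m, Nat.card {c : G ⧸ HH // a • c = c} = m + 1 ∧
      m * Nat.card ↥(Dgrp P u ⊓ Subgroup.centralizer ({s} : Set G)) = 2 ^ n * (2 ^ n + 1) ∧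
      (m + 1) * (m * Nat.card (Dgrp P u)) ∣ Nat.card G := by
  classical
  set CS := Subgroup.centralizer ({s} : Set G) with hCS
  obtain ⟨S, A, hd⟩ : ∃ S A : Subgroup CS, CentData (2 ^ n) S A := hG.cent s hs
  set F : Set (G ⧸ HH) := {c | a • c = c} with hF
  obtain ⟨haD, haC⟩ := Subgroup.mem_inf.1 ha
  obtain ⟨ha0, hab⟩ := (mem_Dgrp P).1 haD
  have hne : u • pt0 ≠ pt0 := fun e => huH ((smul_pt0 P).1 e)
  have hua : u * a = a * u := (comm_iff P hu huH hG hs hsP haD).2 haC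
  -- the orbit of `u H` under `C(s) ∩ C(a)`
  have hmove : ∀ c ∈ F, c ≠ pt0 → ∃ x ∈ CS ⊓ Subgroup.centralizer ({a} : Set G), x • u • pt0 = c := by
    intro c hc hc0
    obtain ⟨h, hh, rfl⟩ := transitive P hG hne hc0
    -- `h ∈ C(s) D`
    obtain ⟨d, hdD, e⟩ := Involutions.StronglyEmbedded.exists_conj_in_inter (stronglyEmbedded hG P)
      hu huH hs (Subgroup.le_normalizer hsP)
      (show orderOf (h⁻¹ * s * h) = 2 by
        have := orderOf_conj h⁻¹ s; rw [inv_inv] at this; rw [this, hs])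
      (mul_mem (mul_mem (inv_mem hh) (Subgroup.le_normalizer hsP)) hh)
    rw [← Dgrp_eq] at hdD
    set x := h * d with hx
    have hxC : x ∈ CS := by
      rw [hCS, Subgroup.mem_centralizer_singleton_iff, hx]
      calc h * d * s = h * (d * s * d⁻¹) * d := by group
        _ = s * (h * d) := by rw [e]; group
    have hxb : x • u • pt0 = h • u • pt0 := by rw [hx, mul_smul, ((mem_Dgrp P).1 hdD).2]
    refine ⟨x, ⟨hxC, ?_⟩, hxb⟩
    set w := x⁻¹ * a * x with hw
    have hwD : w ∈ Dgrp P u ⊓ CS := by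
      refine Subgroup.mem_inf.2 ⟨(mem_Dgrp P).2 ⟨?_, ?_⟩, CS.mul_mem (CS.mul_mem (CS.inv_mem hxC) haC) hxC⟩
      · have hx0 : x • pt0 = pt0 := (smul_pt0 P).2 (cent_le hG P hs hsP hxC)
        rw [hw, mul_smul, mul_smul, hx0, ha0, inv_smul_eq_iff, hx0]
      · rw [hw, mul_smul, mul_smul, hxb, show a • h • u • pt0 = h • u • pt0 from hc, inv_smul_eq_iff,
          hxb]
    -- modulo `S` the centraliser is abelian
    haveI := hd.normal
    have hcomm : ∀ y z : CS, QuotientGroup.mk' S (y * z) = QuotientGroup.mk' S (z * y) := by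
      intro y z
      obtain ⟨v, hv, b, hb, rfl⟩ := hd.exists_mul y
      obtain ⟨v', hv', b', hb', rfl⟩ := hd.exists_mul z
      haveI := hd.cyclic_A
      letI := (IsCyclic.commGroup : CommGroup A)
      have hbb : b * b' = b' * b := congrArg Subtype.val (mul_comm (⟨b, hb⟩ : A) ⟨b', hb'⟩)
      simp only [map_mul, show QuotientGroup.mk' S v = 1 from (QuotientGroup.eq_one_iff v).2 hv,
        show QuotientGroup.mk' S v' = 1 from (QuotientGroup.eq_one_iff v').2 hv', one_mul]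
      rw [← map_mul, hbb, map_mul]
    have hmem : (⟨w * a⁻¹, mul_mem hwD.2 (inv_mem haC)⟩ : CS) ∈ S := by
      refine (QuotientGroup.eq_one_iff _).1 (?_ : QuotientGroup.mk' S _ = 1)
      rw [show (⟨w * a⁻¹, mul_mem hwD.2 (inv_mem haC)⟩ : CS) =
        (⟨x, hxC⟩⁻¹ * ⟨a, haC⟩) * ⟨x, hxC⟩ * ⟨a, haC⟩⁻¹ from rfl, map_mul, hcomm, ← map_mul]
      simp
    have h1 := orderOf_dvd_natCard (⟨_, hmem⟩ : S)
    rw [Subgroup.orderOf_mk, Subgroup.orderOf_mk, hd.card_S] at h1
    have h2 := orderOf_dvd_natCard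
      (⟨w * a⁻¹, mul_mem hwD (inv_mem ha)⟩ : ↥(Dgrp P u ⊓ CS))
    rw [Subgroup.orderOf_mk] at h2
    have hwa : w * a⁻¹ = 1 := orderOf_eq_one_iff.1 (Nat.eq_one_of_dvd_coprimes
      (coprime_succ_pow hG.two_le 3) (h2.trans (E_cyclic P hu huH hG hs).2) h1)
    show x ∈ Subgroup.centralizer ({a} : Set G)
    rw [Subgroup.mem_centralizer_singleton_iff]
    calc x * a = x * w := by rw [mul_inv_eq_one.1 hwa]
      _ = a * x := by rw [hw]; group
  set m := Nat.card ↥(F \ {pt0}) with hm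
  have hpres : ∀ g ∈ Subgroup.centralizer ({a} : Set G), ∀ c ∈ F, g • c ∈ F := fun g hg c hc => by
    show a • g • c = g • c
    rw [smul_smul, ← Subgroup.mem_centralizer_singleton_iff.1 hg, mul_smul, show a • c = c from hc]
  have horb : ∀ K : Subgroup G, CS ⊓ Subgroup.centralizer ({a} : Set G) ≤ K →
      K ≤ HH ⊓ Subgroup.centralizer ({a} : Set G) → MulAction.orbit K (u • pt0) = F \ {pt0} := by
    intro K hK1 hK2
    ext c
    constructor
    · rintro ⟨⟨g, hg⟩, rfl⟩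
      exact ⟨hpres g (hK2 hg).2 _ hab, fun e => hne (smul_left_cancel g
        ((Set.mem_singleton_iff.1 e).trans ((smul_pt0 P).2 (hK2 hg).1).symm))⟩
    · rintro ⟨hcF, hc⟩
      obtain ⟨g, hg, e⟩ := hmove c hcF hc
      exact ⟨⟨g, hK1 hg⟩, e⟩
  have hle : CS ⊓ Subgroup.centralizer ({a} : Set G) ≤ HH ⊓ Subgroup.centralizer ({a} : Set G) :=
    inf_le_inf_right _ (cent_le hG P hs hsP)
  have hDa : ∀ d ∈ Dgrp P u, d ∈ Subgroup.centralizer ({a} : Set G) := fun d hd' =>
    Subgroup.mem_centralizer_singleton_iff.2 (D_comm P hu huH hG hd' haD)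
  refine ⟨m, ?_, ?_, ?_⟩
  · exact card_erase_add (s := F) (y := pt0) ha0
  · have h1 := card_orbit_mul (CS ⊓ Subgroup.centralizer ({a} : Set G)) (u • pt0)
    erw [horb _ le_rfl hle] at h1
    rw [show CS ⊓ Subgroup.centralizer ({a} : Set G) ⊓
        MulAction.stabilizer G (u • pt0) = Dgrp P u ⊓ CS from ?_] at h1
    swap
    · ext g
      simp only [Subgroup.mem_inf, mem_Dgrp, MulAction.mem_stabilizer_iff]
      constructor
      · rintro ⟨⟨h1, -⟩, h2⟩
        exact ⟨⟨(smul_pt0 P).2 (cent_le hG P hs hsP h1), h2⟩, h1⟩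
      · rintro ⟨h1, h2⟩
        exact ⟨⟨h2, hDa g ((mem_Dgrp P).2 h1)⟩, h1.2⟩
    rw [← hm] at h1
    rw [h1]
    -- a conjugate of `a` lies in `A`
    have hao := odd_order P hu huH hG haD
    obtain ⟨v, -, hb⟩ := hd.conj_into ⟨a, haC⟩ (by rwa [Subgroup.orderOf_mk])
    have hb1 : v * (⟨a, haC⟩ : CS) * v⁻¹ ≠ 1 := fun e =>
      ha1 (congrArg Subtype.val (conj_eq_one_iff.1 e))
    rw [← card_cent_A hd (fun c hc hc' => cent_disjoint hG hd hc hc') hb hb1]
    refine Nat.card_eq_of_bijective (fun x => ⟨v * ⟨(x : G), x.2.1⟩ * v⁻¹,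
      Subgroup.mem_centralizer_singleton_iff.2 ?_⟩) ⟨fun x y e => ?_, fun z => ?_⟩
    · have hxa : (⟨(x : G), x.2.1⟩ : CS) * ⟨a, haC⟩ = ⟨a, haC⟩ * ⟨(x : G), x.2.1⟩ :=
        Subtype.ext (Subgroup.mem_centralizer_singleton_iff.1 x.2.2)
      calc v * (⟨(x : G), x.2.1⟩ : CS) * v⁻¹ * (v * ⟨a, haC⟩ * v⁻¹)
          = v * ((⟨(x : G), x.2.1⟩ : CS) * ⟨a, haC⟩) * v⁻¹ := by group
        _ = v * ((⟨a, haC⟩ : CS) * ⟨(x : G), x.2.1⟩) * v⁻¹ := by rw [hxa]
        _ = _ := by group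
    · dsimp only at e
      have e' := congrArg Subtype.val e
      have e'' := mul_left_cancel (mul_right_cancel e')
      exact Subtype.ext (congrArg Subtype.val e'' :)
    · obtain ⟨z, hz⟩ := z
      have hza : v⁻¹ * z * v * (⟨a, haC⟩ : CS) = ⟨a, haC⟩ * (v⁻¹ * z * v) := by
        have h2 := Subgroup.mem_centralizer_singleton_iff.1 hz
        calc v⁻¹ * z * v * (⟨a, haC⟩ : CS) = v⁻¹ * (z * (v * ⟨a, haC⟩ * v⁻¹)) * v := by group
          _ = v⁻¹ * ((v * ⟨a, haC⟩ * v⁻¹) * z) * v := by rw [h2]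
          _ = _ := by group
      refine ⟨⟨((v⁻¹ * z * v : CS) : G), (v⁻¹ * z * v).2,
        Subgroup.mem_centralizer_singleton_iff.2 (congrArg Subtype.val hza)⟩, Subtype.ext ?_⟩
      show v * (v⁻¹ * z * v) * v⁻¹ = z
      group
  · have h1 := card_orbit_mul (HH ⊓ Subgroup.centralizer ({a} : Set G)) (u • pt0)
    erw [horb _ hle le_rfl] at h1
    rw [show HH ⊓ Subgroup.centralizer ({a} : Set G) ⊓
        MulAction.stabilizer G (u • pt0) = Dgrp P u from ?_, ← hm] at h1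
    swap
    · ext g
      simp only [Subgroup.mem_inf, mem_Dgrp, MulAction.mem_stabilizer_iff, smul_pt0]
      constructor
      · rintro ⟨⟨h1, -⟩, h2⟩; exact ⟨h1, h2⟩
      · rintro ⟨h1, h2⟩; exact ⟨⟨h1, hDa g ((mem_Dgrp P).2 ⟨(smul_pt0 P).2 h1, h2⟩)⟩, h2⟩
    have h2 := card_orbit_mul (Subgroup.centralizer ({a} : Set G)) pt0
    have e1 : MulAction.orbit (Subgroup.centralizer ({a} : Set G)) pt0 = F := by
      ext c
      constructor
      · rintro ⟨⟨g, hg⟩, rfl⟩
        exact hpres g hg _ ha0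
      · intro hc
        by_cases hc0 : c = pt0
        · exact ⟨1, by rw [hc0]; exact one_smul _ _⟩
        · obtain ⟨x, hx, e⟩ := hmove c hc hc0
          refine ⟨⟨x * u, mul_mem hx.2 (Subgroup.mem_centralizer_singleton_iff.2 hua)⟩, ?_⟩
          show (x * u) • pt0 = c
          rw [mul_smul, e]
    have hst : Subgroup.centralizer ({a} : Set G) ⊓ MulAction.stabilizer G pt0 =
        HH ⊓ Subgroup.centralizer ({a} : Set G) := by
      rw [inf_comm]
      congr 1
      ext g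
      rw [MulAction.mem_stabilizer_iff, smul_pt0]
    erw [e1] at h2
    rw [hst, ← h1, card_erase_add (s := F) (y := pt0) ha0, ← hm] at h2
    rw [h2]
    exact Subgroup.card_subgroup_dvd_card _

/-- `|D ∩ C(s)| = q + 1`. -/
theorem card_E {s : G} (hs : orderOf s = 2) (hsP : s ∈ P) :
    Nat.card ↥(Dgrp P u ⊓ Subgroup.centralizer ({s} : Set G)) = 2 ^ n + 1 := by
  obtain ⟨⟨a, ha⟩, ha1⟩ := Subgroup.ne_bot_iff_exists_ne_one.1 (E_ne_bot P hu huH hG hs hsP)
  obtain ⟨m, -, hm, hdvd⟩ := fix_count P hu huH hG hs hsP ha fun e => ha1 (Subtype.ext e)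
  obtain ⟨M, hN, hM⟩ := points_mul P hu huH hG
  obtain ⟨r, hr⟩ := (E_cyclic P hu huH hG hs).2
  set e := Nat.card ↥(Dgrp P u ⊓ Subgroup.centralizer ({s} : Set G)) with he
  have he0 : 0 < e := Nat.card_pos
  have hq := four_le hG.two_le
  have hD := card_D P hu huH hG hs hsP
  rw [← he] at hD
  have hmr : m = 2 ^ n * r := by
    refine Nat.eq_of_mul_eq_mul_right he0 ?_
    rw [hm, hr]; ring
  have hH := card_normalizer hG P
  have hMr : M = (2 ^ n) ^ 3 * r := by
    refine Nat.eq_of_mul_eq_mul_right (Nat.mul_pos (show 0 < 2 ^ n - 1 by omega) he0) ?_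
    rw [← hD, hM, hH, hD, hr]; ring
  have hcard : Nat.card G = (M + 1) * Nat.card HH := by
    rw [← hN]; exact Subgroup.card_eq_card_quotient_mul_card_subgroup _
  have hfd : m + 1 ∣ (M + 1) * (2 ^ n) ^ 2 := by
    have hpos : 0 < 2 ^ n * ((2 ^ n - 1) * (2 ^ n + 1)) :=
      Nat.mul_pos (by omega) (Nat.mul_pos (by omega) (by omega))
    refine Nat.dvd_of_mul_dvd_mul_right hpos ?_
    rw [hcard, hH, hD, hmr, hr] at hdvd
    rw [hmr, hr]
    calc (2 ^ n * r + 1) * (2 ^ n * ((2 ^ n - 1) * (e * r)))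
        = (2 ^ n * r + 1) * (2 ^ n * r * ((2 ^ n - 1) * e)) := by ring
      _ ∣ (M + 1) * ((2 ^ n - 1) * ((2 ^ n) ^ 3 * (e * r))) := hdvd
      _ = _ := by ring
  rw [hmr, hMr] at hfd
  obtain ⟨Q, hQ⟩ : ∃ Q, Q = 2 ^ n := ⟨_, rfl⟩
  rw [← hQ] at hq hr hfd
  rw [← hQ]
  have hco : Nat.Coprime (Q * r + 1) (Q ^ 2) :=
    Nat.Coprime.pow_right 2 (by rw [add_comm]; exact (Nat.coprime_add_mul_left_left 1 Q r).2 (Nat.coprime_one_left Q))
  have hN' : Q * r + 1 ∣ Q ^ 3 * r + 1 := hco.dvd_of_dvd_mul_right hfd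
  have hQ2 : Q * r + 1 ∣ Q ^ 2 - 1 := by
    have h2 : Q * r + 1 ∣ (Q * r + 1) * Q ^ 2 := dvd_mul_right _ _
    have h3 := Nat.dvd_sub h2 hN'
    have h4 : (Q * r + 1) * Q ^ 2 = Q ^ 3 * r + Q ^ 2 := by ring
    have h5 : Q ^ 3 * r + Q ^ 2 - (Q ^ 3 * r + 1) = Q ^ 2 - 1 := by omega
    rwa [h4, h5] at h3
  obtain ⟨c, hc⟩ := hQ2
  have hr1 : r = 1 := by
    have hQ1 : 1 ≤ Q ^ 2 := Nat.one_le_pow _ _ (by omega)
    have hr0 : r ≠ 0 := fun e0 => by rw [e0, mul_zero] at hr; omega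
    by_contra hne
    have hr2 : 2 ≤ r := by omega
    have hc' : c * (Q * r) + c + 1 = Q * Q := by
      have : (Q * r + 1) * c = c * (Q * r) + c := by ring
      rw [this] at hc
      rw [← sq]; omega
    have h3 : Q ∣ c + 1 := by
      have h4 : Q ∣ c * (Q * r) + (c + 1) := ⟨Q, by omega⟩
      exact (Nat.dvd_add_right ⟨c * r, by ring⟩).1 h4
    have hcge : Q ≤ c + 1 := Nat.le_of_dvd (by omega) h3
    have h6 : (Q - 1) * (Q * 2) ≤ c * (Q * r) :=
      Nat.mul_le_mul (by omega) (Nat.mul_le_mul_left Q hr2)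
    have h7 : (Q - 1) * (Q * 2) = 2 * (Q * Q) - 2 * Q := by
      rw [Nat.sub_mul]; ring_nf
    have h8 : 4 * Q ≤ Q * Q := Nat.mul_le_mul_right Q hq
    omega
  rw [hr1, mul_one] at hr
  exact hr.symm

end Cfsg.Agent.Involutions.RankOne.PGU3
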