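import Mathlib
import Cfsg.Prelude.Def_LieRecognition

/-!
# `PGU₃(q)`, `q` even: what is used of the centraliser of an involution

See the header of `Setup`.
-/

set_option autoImplicit false

namespace Cfsg.Agent.Involutions.RankOne.PGU3

/-- The centraliser `C` is `S A` with `S` the Suzuki 2-group of order `q³` and `A` cyclic of order
`q + 1` fixed-point-free on `S / Z(S)`. -/
structure CentData (q : ℕ) {C : Type*} [Group C] (S A : Subgroup C) : Prop where
  normal : S.Normal
  card_S : Nat.card S = q ^ 3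
  suzuki : Cfsg.IsSuzukiTwoGroup S
  card_center : Nat.card (Subgroup.center S) = q
  involution : ∀ s ∈ S, s * s = 1 → ∀ c : C, s * c = c * s
  center_sq : ∀ s ∈ S, (∀ y ∈ S, s * y = y * s) → s * s = 1
  card_A : Nat.card A = q + 1
  cyclic_A : IsCyclic A
  exists_mul : ∀ c : C, ∃ s ∈ S, ∃ b ∈ A, c = s * b
  fpf : ∀ b ∈ A, b ≠ 1 → ∀ s ∈ S, s * b = b * s → s * s = 1
  conj_into : ∀ c : C, Odd (orderOf c) → ∃ s ∈ S, s * c * s⁻¹ ∈ A

/-- `CentData` is invariant under isomorphism. -/
theorem CentData.map {q : ℕ} {C C' : Type*} [Group C] [Group C'] (e : C ≃* C') {S A : Subgroup C}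
    (h : CentData q S A) (hsz : Cfsg.IsSuzukiTwoGroup (S.map e.toMonoidHom)) :
    CentData q (S.map e.toMonoidHom) (A.map e.toMonoidHom) where
  normal := h.normal.map _ e.surjective
  card_S := by rw [Subgroup.card_map_of_injective (f := e.toMonoidHom) e.injective, h.card_S]
  suzuki := hsz
  card_center := by
    rw [← Nat.card_congr
      (Subgroup.centerCongr (S.equivMapOfInjective e.toMonoidHom e.injective)).toEquiv, h.card_center]
  involution := by
    rintro _ ⟨s, hs, rfl⟩ hss c
    obtain ⟨c, rfl⟩ := e.surjective c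
    have h1 : s * s = 1 := e.injective (by rw [map_mul, map_one]; exact hss)
    show e s * e c = e c * e s
    rw [← map_mul, h.involution s hs h1 c, map_mul]
  center_sq := by
    rintro _ ⟨s, hs, rfl⟩ hc
    show e s * e s = 1
    rw [← map_mul, h.center_sq s hs fun y hy => e.injective (by
      rw [map_mul, map_mul]; exact hc _ ⟨y, hy, rfl⟩), map_one]
  card_A := by rw [Subgroup.card_map_of_injective (f := e.toMonoidHom) e.injective, h.card_A]
  cyclic_A := by
    haveI := h.cyclic_A
    exact isCyclic_of_surjective (A.equivMapOfInjective e.toMonoidHom e.injective).toMonoidHom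
      (A.equivMapOfInjective e.toMonoidHom e.injective).surjective
  exists_mul := fun c => by
    obtain ⟨c, rfl⟩ := e.surjective c
    obtain ⟨s, hs, b, hb, rfl⟩ := h.exists_mul c
    exact ⟨e s, ⟨s, hs, rfl⟩, e b, ⟨b, hb, rfl⟩, map_mul e s b⟩
  fpf := by
    rintro _ ⟨b, hb, rfl⟩ hb1 _ ⟨s, hs, rfl⟩ hc
    show e s * e s = 1
    rw [← map_mul, h.fpf b hb (fun e' => hb1 (by rw [e']; exact map_one e)) s hs
      (e.injective (by rw [map_mul, map_mul]; exact hc)), map_one]
  conj_into := fun c hc => by
    obtain ⟨c, rfl⟩ := e.surjective c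
    rw [MulEquiv.orderOf_eq] at hc
    obtain ⟨s, hs, hb⟩ := h.conj_into c hc
    exact ⟨e s, ⟨s, hs, rfl⟩, _, hb, by simp⟩

end Cfsg.Agent.Involutions.RankOne.PGU3
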