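import Cfsg.Agent.Lib.Involutions.RankOne.U3.Torus
import Cfsg.Agent.Lib.Involutions.RankOne.U3.Defs

/-!
# Automorphisms of the Heisenberg group commuting with the map of the unital

Such an automorphism fixing the centre multiplies the first coordinate by a norm-one scalar, or is such
a map followed by conjugation.
-/

set_option autoImplicit false
set_option linter.unusedSectionVars false

namespace Cfsg.Agent.Involutions.RankOne.PGU3

open Cfsg.Agent.Involutions.RankOne.U3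

variable {Q F : Type*} [Group Q] [Field F] [Fintype F] [CharP F 2] {n : ℕ}

/-- The map of the unital. -/
def unitalMap (p : F × F) : F × F := (p.1 / p.2, p.2⁻¹)

theorem unital_ne {p : F × F} (hp : InHerm n p) (h : p.1 ≠ 0) : p.2 ≠ 0 := fun e => by
  rw [InHerm, e, zero_pow (Nat.two_pow_pos n).ne', add_zero] at hp
  exact pow_ne_zero _ h hp.symm

theorem unital_mem {p : F × F} (hp : InHerm n p) (h : p.1 ≠ 0) : InHerm n (unitalMap p) := by
  have h2 := unital_ne hp h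
  rw [InHerm] at hp
  show (p.2)⁻¹ + (p.2)⁻¹ ^ (2 ^ n) = (p.1 / p.2) ^ (2 ^ n + 1)
  rw [div_pow, ← hp, inv_pow, pow_succ (p.2)]
  field_simp
  ring

variable {e : Q → F × F} (he : IsCoords n e) (φ : Q ≃* Q)
  (h0 : ∀ x, (e x).1 = 0 → φ x = x)
  (hf : ∀ x y, x ≠ 1 → e y = unitalMap (e x) → e (φ y) = unitalMap (e (φ x)))
  (hF : Fintype.card F = (2 ^ n) ^ 2)
include he h0 hf hF

omit φ h0 hf hF in
theorem e_one_fst : (e 1).1 = 0 := by
  have h := congrArg Prod.fst (he.map_mul 1 1)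
  rw [mul_one] at h
  simp only [hMul, CharTwo.add_self_eq_zero] at h
  exact h

/-- The dichotomy. -/
theorem scalar_or_conj : ∃ δ : F, δ ^ (2 ^ n + 1) = 1 ∧
    ((∀ x, e (φ x) = (δ * (e x).1, (e x).2)) ∨
      ∀ x, e (φ x) = (δ * (e x).1 ^ (2 ^ n), (e x).2 ^ (2 ^ n))) := by
  classical
  have h2 : (2 : F) = 0 := CharTwo.two_eq_zero
  have hq0 : (0 : F) ^ (2 ^ n) = 0 := zero_pow (Nat.two_pow_pos n).ne'
  have hconj : ∀ x y : F, (x + y) ^ (2 ^ n) = x ^ (2 ^ n) + y ^ (2 ^ n) := Torus.conj_add hF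
  have hqq : ∀ x : F, (x ^ (2 ^ n)) ^ (2 ^ n) = x := Torus.sq_q hF
  -- related pairs of coordinates
  let Rel : F × F → F × F → Prop := fun p p' => ∃ x, e x = p ∧ e (φ x) = p'
  have hne : ∀ {p p'}, Rel p p' → p.1 ≠ 0 → p'.1 ≠ 0 := by
    rintro p p' ⟨x, rfl, rfl⟩ h h'
    have h1 := h0 _ h'
    exact h (by rw [← φ.injective h1]; exact h')
  have hflip : ∀ {p p'}, Rel p p' → p.1 ≠ 0 → Rel (unitalMap p) (unitalMap p') := by
    rintro p p' ⟨x, rfl, rfl⟩ h
    obtain ⟨y, hy⟩ := he.surj _ (unital_mem (he.mem x) h)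
    exact ⟨y, hy, hf x y (fun e' => h (by rw [e']; exact e_one_fst he)) hy⟩
  have hshift : ∀ {p p'}, Rel p p' → ∀ {z : F}, z ^ (2 ^ n) = z →
      Rel (p.1, p.2 + z) (p'.1, p'.2 + z) := by
    rintro p p' ⟨x, rfl, rfl⟩ z hz
    obtain ⟨w, hw⟩ := he.surj (0, z) (by
      show z + z ^ (2 ^ n) = 0 ^ (2 ^ n + 1)
      rw [hz, CharTwo.add_self_eq_zero, zero_pow (Nat.succ_ne_zero _)])
    refine ⟨w * x, ?_, ?_⟩
    · rw [he.map_mul, hw]; simp [hMul, hq0, add_comm]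
    · rw [map_mul, h0 w (by rw [hw]), he.map_mul, hw]; simp [hMul, hq0, add_comm]
  have hscale : ∀ {p p'}, Rel p p' → p.1 ≠ 0 → ∀ {z : F}, z ≠ 0 → z ^ (2 ^ n) = z →
      Rel (z * p.1, z ^ 2 * p.2) (z * p'.1, z ^ 2 * p'.2) := by
    rintro p p' hr h z hz hzq
    have key : ∀ (p : F × F), InHerm n p → p.1 ≠ 0 → (1 + z * p.2 ≠ 0) := by
      intro p hp hp1 e'
      have h1 : p.2 = z⁻¹ := by
        refine eq_inv_of_mul_eq_one_left ?_
        linear_combination e' - h2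
      rw [InHerm, h1, inv_pow, hzq, CharTwo.add_self_eq_zero] at hp
      exact pow_ne_zero _ hp1 hp.symm
    obtain ⟨x, rfl, rfl⟩ := hr
    have hne' := hne ⟨x, rfl, rfl⟩ h
    have hn1 := unital_ne (he.mem x) h
    have hn1' := unital_ne (he.mem (φ x)) hne'
    have k1 := key _ (he.mem x) h
    have k1' := key _ (he.mem (φ x)) hne'
    have r1 := hflip ⟨x, rfl, rfl⟩ h
    have r2 := hshift r1 hzq
    have r3 := hflip r2 (div_ne_zero h hn1)
    have e3 : ∀ (a b : F), a ≠ 0 → b ≠ 0 → 1 + z * b ≠ 0 →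
        unitalMap ((unitalMap (a, b)).1, (unitalMap (a, b)).2 + z) = (a / (1 + z * b), b / (1 + z * b)) := by
      intro a b ha hb hzb
      have : b⁻¹ + z = (1 + z * b) / b := by field_simp
      simp only [unitalMap, this]
      refine Prod.ext ?_ ?_ <;> simp only
      · field_simp
      · rw [inv_div]
    rw [e3 _ _ h hn1 k1, e3 _ _ hne' hn1' k1'] at r3
    have r4 := hshift r3 (inv_fixed hzq)
    have r5 := hflip r4 (div_ne_zero h k1)
    have r6 := hshift r5 hzq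
    have e6 : ∀ (a b : F), 1 + z * b ≠ 0 →
        ((unitalMap (a / (1 + z * b), b / (1 + z * b) + z⁻¹)).1,
          (unitalMap (a / (1 + z * b), b / (1 + z * b) + z⁻¹)).2 + z) = (z * a, z ^ 2 * b) := by
      intro a b hzb
      have e4 : b / (1 + z * b) + z⁻¹ = (z * (1 + z * b))⁻¹ := by
        have e5 : b / (1 + z * b) + z⁻¹ = (z * b + (1 + z * b)) * (z * (1 + z * b))⁻¹ := by
          rw [mul_inv, div_eq_mul_inv]
          linear_combination -(b * (1 + z * b)⁻¹) * mul_inv_cancel₀ hz - z⁻¹ * mul_inv_cancel₀ hzb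
        rw [e5, show z * b + (1 + z * b) = 1 by linear_combination (z * b) * h2, one_mul]
      simp only [unitalMap, e4]
      refine Prod.ext ?_ ?_ <;> simp only
      · field_simp
      · rw [inv_inv]; linear_combination z * h2
    rw [e6 _ _ k1, e6 _ _ k1'] at r6
    exact r6
  -- the two components
  have hfun : ∀ a, ∃ A T, ∀ b, InHerm n (a, b) → Rel (a, b) (A, b + T) := by
    intro a
    by_cases hex : ∃ b, InHerm n (a, b)
    swap
    · exact ⟨0, 0, fun b hb => absurd ⟨b, hb⟩ hex⟩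
    obtain ⟨b₀, hb₀⟩ := hex
    obtain ⟨x, hx⟩ := he.surj _ hb₀
    refine ⟨(e (φ x)).1, b₀ + (e (φ x)).2, fun b hb => ?_⟩
    have hz : (b + b₀) ^ (2 ^ n) = b + b₀ := by
      rw [InHerm] at hb hb₀
      rw [hconj]
      linear_combination hb + hb₀ - b * h2 - b₀ * h2 + a ^ (2 ^ n + 1) * h2
    have h1 := hshift ⟨x, hx, rfl⟩ hz
    have e1 : b₀ + (b + b₀) = b := by linear_combination b₀ * h2
    have e2 : (e (φ x)).2 + (b + b₀) = b + (b₀ + (e (φ x)).2) := by ring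
    rw [e1, e2] at h1
    exact h1
  choose A T hAT using hfun
  have huniq : ∀ {p p' p''}, Rel p p' → Rel p p'' → p' = p'' := by
    rintro p p' p'' ⟨x, rfl, rfl⟩ ⟨y, hy, rfl⟩
    rw [he.injective hy]
  have hex : ∀ a : F, ∃ b, InHerm n (a, b) := by
    intro a
    by_contra hno
    push Not at hno
    obtain ⟨ρ, hρ1, hρ⟩ := Torus.exists_rho (F := F) hF
    refine hno (a ^ (2 ^ n + 1) * ρ / (ρ + ρ ^ (2 ^ n))) ?_
    have hs : ρ + ρ ^ (2 ^ n) ≠ 0 := fun e' => hρ (CharTwo.add_eq_zero.1 e').symm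
    have hN : (a ^ (2 ^ n + 1)) ^ (2 ^ n) = a ^ (2 ^ n + 1) := by
      rw [pow_succ, mul_pow, hqq, mul_comm]
    show _ + _ ^ (2 ^ n) = a ^ (2 ^ n + 1)
    rw [div_pow, mul_pow, hN, hconj, hqq, add_comm (ρ ^ (2 ^ n)) ρ, ← add_div, ← mul_add,
      mul_div_assoc, div_self hs, mul_one]
  have hAne : ∀ a, a ≠ 0 → A a ≠ 0 := fun a ha => by
    obtain ⟨b, hb⟩ := hex a
    exact hne (hAT a b hb) ha
  have hA0 : A 0 = 0 ∧ T 0 = 0 := by
    have hb : InHerm n ((0 : F), (0 : F)) := by simp [InHerm]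
    obtain ⟨x, hx, hx'⟩ := hAT 0 0 hb
    rw [h0 x (by rw [hx]), hx, zero_add] at hx'
    exact ⟨(congrArg Prod.fst hx').symm, (congrArg Prod.snd hx').symm⟩
  have hadd : ∀ a c, A (a + c) = A a + A c := by
    intro a c
    obtain ⟨b, hb⟩ := hex a
    obtain ⟨d, hd⟩ := hex c
    obtain ⟨x, hx, hx'⟩ := hAT a b hb
    obtain ⟨y, hy, hy'⟩ := hAT c d hd
    have hm : InHerm n (a + c, b + d + a ^ (2 ^ n) * c) := by
      have := he.mem (x * y)
      rw [he.map_mul, hx, hy] at this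
      exact this
    obtain ⟨w, hw, hw'⟩ := hAT _ _ hm
    have e1 : w = x * y := he.injective (by rw [hw, he.map_mul, hx, hy]; rfl)
    rw [e1, map_mul, he.map_mul, hx', hy'] at hw'
    exact (congrArg Prod.fst hw').symm
  have hlin : ∀ z : F, z ^ (2 ^ n) = z → ∀ a, A (z * a) = z * A a := by
    intro z hz a
    by_cases hz0 : z = 0
    · rw [hz0, zero_mul, zero_mul, hA0.1]
    by_cases ha : a = 0
    · rw [ha, mul_zero, hA0.1, mul_zero]
    obtain ⟨b, hb⟩ := hex a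
    have hm : InHerm n (z * a, z ^ 2 * b) := by
      rw [InHerm] at hb ⊢
      rw [mul_pow, mul_pow, ← hb, pow_succ z (2 ^ n), hz, ← pow_mul, mul_comm 2, pow_mul, hz]
      ring
    exact (congrArg Prod.fst (huniq (hscale (hAT a b hb) ha hz0 hz) (hAT _ _ hm))).symm
  -- the key equation
  have hkey : ∀ a, a ≠ 0 → ∀ b, InHerm n (a, b) →
      (T a = 0 ∧ A (a * b ^ (2 ^ n)) = b ^ (2 ^ n) * A a) ∨
        (T a = b + b ^ (2 ^ n) ∧ A (a * b ^ (2 ^ n)) = b * A a) := by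
    intro a ha b hb
    set m := b * b ^ (2 ^ n) with hm
    have hA' := hAne a ha
    have main : ∀ z : F, z ^ (2 ^ n) = z →
        (A (a * b ^ (2 ^ n)) + z * A a) * (b + z + T a) = (b + z) * (b + z) ^ (2 ^ n) * A a := by
      intro z hz
      have hb' : InHerm n (a, b + z) := by
        rw [InHerm] at hb ⊢
        rw [hconj, hz]
        linear_combination hb + z * h2
      have hbz := unital_ne hb' ha
      have r := hAT a _ hb'
      have hbz' : b + z + T a ≠ 0 := by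
        obtain ⟨x, -, hx'⟩ := r
        have := unital_ne (he.mem (φ x)) (by rw [hx']; exact hA')
        rwa [hx'] at this
      obtain ⟨w, hw⟩ := he.surj _ (unital_mem hb' ha)
      have r1 := hflip r ha
      have r2 := hAT (a / (b + z)) (b + z)⁻¹ (unital_mem hb' ha)
      have e1 : A (a / (b + z)) = A a / (b + z + T a) := (congrArg Prod.fst (huniq r1 r2)).symm
      have hN : ((b + z) * (b + z) ^ (2 ^ n)) ^ (2 ^ n) = (b + z) * (b + z) ^ (2 ^ n) := by
        rw [mul_pow, hqq, mul_comm]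
      have e2 : a * b ^ (2 ^ n) + z * a = ((b + z) * (b + z) ^ (2 ^ n)) * (a / (b + z)) := by
        field_simp
        rw [hconj, hz]
      rw [← hlin z hz, ← hadd, e2, hlin _ hN, e1]
      field_simp
    have m0 := main 0 hq0
    have m1 := main 1 (one_pow _)
    rw [hconj, one_pow] at m1
    simp only [zero_mul, add_zero] at m0
    set R := A (a * b ^ (2 ^ n)) with hR
    have eR : R = (b ^ (2 ^ n) + T a) * A a := by
      linear_combination m1 - m0 - (A a * T a) * h2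
    rw [eR] at m0
    have ex : T a * (T a + (b + b ^ (2 ^ n))) = 0 := by
      refine mul_right_cancel₀ hA' ?_
      linear_combination m0
    rcases mul_eq_zero.1 ex with h' | h'
    · exact Or.inl ⟨h', by rw [eR, h', add_zero]⟩
    · refine Or.inr ⟨CharTwo.add_eq_zero.1 h', ?_⟩
      rw [eR, CharTwo.add_eq_zero.1 h']
      linear_combination (b ^ (2 ^ n) * A a) * h2
  -- coordinates on `F` over the fixed field
  have hspan : ∀ (a b : F), a ≠ 0 → InHerm n (a, b) → ∀ g, ∃ c₁ c₂ : F, c₁ ^ (2 ^ n) = c₁ ∧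
      c₂ ^ (2 ^ n) = c₂ ∧ g = c₁ * a + c₂ * (a * b ^ (2 ^ n)) := by
    intro a b ha hb g
    have hs : b + b ^ (2 ^ n) ≠ 0 := by rw [InHerm] at hb; rw [hb]; exact pow_ne_zero _ ha
    set w := g / a with hw
    set c₂ := (w + w ^ (2 ^ n)) / (b + b ^ (2 ^ n)) with hc₂
    have hc₂f : c₂ ^ (2 ^ n) = c₂ := by
      rw [hc₂, div_pow, hconj, hconj, hqq, hqq, add_comm, add_comm (b ^ (2 ^ n))]
    have hc₂e : c₂ * (b + b ^ (2 ^ n)) = w + w ^ (2 ^ n) := div_mul_cancel₀ _ hs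
    refine ⟨w + c₂ * b ^ (2 ^ n), c₂, ?_, hc₂f, ?_⟩
    · rw [hconj, mul_pow, hc₂f, hqq]
      linear_combination hc₂e - (c₂ * b ^ (2 ^ n)) * h2 + (w ^ (2 ^ n)) * h2
    · rw [hw]
      field_simp
      linear_combination -(c₂ * b ^ (2 ^ n) * a) * h2
  have hform : ∀ a, a ≠ 0 → (T a = 0 ∧ ∀ g, A g = g / a * A a) ∨
      (T a = a ^ (2 ^ n + 1) ∧ ∀ g, A g = (g / a) ^ (2 ^ n) * A a) := by
    intro a ha
    obtain ⟨b, hb⟩ := hex a
    rcases hkey a ha b hb with ⟨hT, hA⟩ | ⟨hT, hA⟩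
    · refine Or.inl ⟨hT, fun g => ?_⟩
      obtain ⟨c₁, c₂, h1, hc₂, rfl⟩ := hspan a b ha hb g
      rw [hadd, hlin _ h1, hlin _ hc₂, hA]
      field_simp
    · refine Or.inr ⟨hT.trans hb, fun g => ?_⟩
      obtain ⟨c₁, c₂, h1, hc₂, rfl⟩ := hspan a b ha hb g
      rw [hadd, hlin _ h1, hlin _ hc₂, hA,
        show (c₁ * a + c₂ * (a * b ^ (2 ^ n))) / a = c₁ + c₂ * b ^ (2 ^ n) by field_simp,
        hconj, mul_pow, hqq, h1, hc₂]
      ring
  have hnorm : ∀ a, a ≠ 0 → (T a = 0 ∨ T a = a ^ (2 ^ n + 1)) →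
      (A a) ^ (2 ^ n + 1) = a ^ (2 ^ n + 1) := by
    intro a ha hT
    obtain ⟨b, hb⟩ := hex a
    obtain ⟨x, -, hx⟩ := hAT a b hb
    have h1 := he.mem (φ x)
    rw [hx] at h1
    rw [InHerm] at h1 hb
    have hN : (a ^ (2 ^ n + 1)) ^ (2 ^ n) = a ^ (2 ^ n + 1) := by
      rw [pow_succ, mul_pow, hqq, mul_comm]
    rcases hT with hT | hT <;> rw [hT] at h1
    · rw [add_zero] at h1; rw [← h1, hb]
    · rw [hconj, hN] at h1
      rw [← h1]
      linear_combination hb + (a ^ (2 ^ n + 1)) * h2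
  have h10 : (1 : F) ≠ 0 := one_ne_zero
  have hne2 : ∀ a : F, a ≠ 0 → ¬((∀ g, A g = g / a * A a) ∧ ∃ c, c ≠ 0 ∧
      ∀ g, A g = (g / c) ^ (2 ^ n) * A c) := by
    rintro a ha ⟨hl, c, hc, hq'⟩
    obtain ⟨ρ, -, hρ⟩ := Torus.exists_rho (F := F) hF
    have e1 := hl (ρ * c)
    have e2 := hl c
    rw [hq', mul_div_cancel_right₀ _ hc] at e1
    have e3 : A (ρ * c) = ρ * A c := by rw [hl (ρ * c), e2]; ring
    rw [hq', mul_div_cancel_right₀ _ hc] at e3
    exact hρ (mul_right_cancel₀ (hAne c hc) e3)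
  rcases hform 1 h10 with ⟨hT1, hA1⟩ | ⟨hT1, hA1⟩
  · refine ⟨A 1, by rw [hnorm 1 h10 (Or.inl hT1), one_pow], Or.inl fun x => ?_⟩
    obtain ⟨w, hw, hw'⟩ := hAT _ _ (he.mem x)
    rw [he.injective hw] at hw'
    rw [hw']
    by_cases hx : (e x).1 = 0
    · rw [hx, hA0.1, hA0.2, mul_zero, add_zero]
    rcases hform _ hx with ⟨hT, -⟩ | ⟨-, hc⟩
    · rw [hT, add_zero, hA1 (e x).1, div_one, mul_comm]
    · exact absurd ⟨hA1, _, hx, hc⟩ (hne2 1 h10)
  · refine ⟨A 1, by rw [hnorm 1 h10 (Or.inr hT1), one_pow], Or.inr fun x => ?_⟩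
    obtain ⟨w, hw, hw'⟩ := hAT _ _ (he.mem x)
    rw [he.injective hw] at hw'
    rw [hw']
    by_cases hx : (e x).1 = 0
    · rw [hx, hA0.1, hA0.2, hq0, mul_zero, add_zero]
      have h3 := he.mem x
      rw [InHerm, hx, zero_pow (Nat.succ_ne_zero _)] at h3
      rw [← CharTwo.add_eq_zero.1 h3]
    rcases hform _ hx with ⟨-, hc⟩ | ⟨hT, -⟩
    · exact absurd ⟨hc, 1, h10, hA1⟩ (hne2 _ hx)
    · have h3 := he.mem x
      rw [InHerm] at h3
      rw [hT, hA1 (e x).1, div_one, mul_comm (A 1)]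
      refine Prod.ext rfl ?_
      show (e x).2 + (e x).1 ^ (2 ^ n + 1) = (e x).2 ^ (2 ^ n)
      linear_combination -h3 + (e x).2 * h2

/-- When `φ` is a square of a map of the same kind it is scalar. -/
theorem scalar_of_square (ψ : Q ≃* Q) (h0' : ∀ x, (e x).1 = 0 → ψ x = x)
    (hf' : ∀ x y, x ≠ 1 → e y = unitalMap (e x) → e (ψ y) = unitalMap (e (ψ x)))
    (hψ : ∀ x, φ x = ψ (ψ x)) :
    ∃ δ : F, δ ^ (2 ^ n + 1) = 1 ∧ ∀ x, e (φ x) = (δ * (e x).1, (e x).2) := by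
  obtain ⟨δ, hδ, h | h⟩ := scalar_or_conj he ψ h0' hf' hF
  · refine ⟨δ * δ, by rw [mul_pow, hδ, one_mul], fun x => ?_⟩
    rw [hψ, h, h]
    simp [mul_assoc]
  · refine ⟨1, one_pow _, fun x => ?_⟩
    rw [hψ, h, h]
    simp only [mul_pow, Torus.sq_q hF, one_mul]
    rw [← mul_assoc, ← pow_succ', hδ, one_mul]

end Cfsg.Agent.Involutions.RankOne.PGU3
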