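import Cfsg.Agent.Lib.Involutions.RankOne.U3.Identify.Model
import Cfsg.Agent.Lib.Classical.PGUOrder.Upper
import Cfsg.Agent.Lib.Classical.UnitaryFrames

/-!
# `GU₃(q)` on the unital
-/

set_option autoImplicit false
set_option linter.unusedSectionVars false

namespace Cfsg.Agent.Involutions.RankOne.PGU3

open Matrix Cfsg.Agent.Classical Cfsg.Agent.Classical.Unitary Cfsg.Agent.Forms
  Cfsg.Agent.Involutions.SylowPSUThree Cfsg.Agent.Involutions.RankOne.U3

universe u

variable {F : Type u} [Field F] [Fintype F] {n : ℕ}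

local notation "q" => 2 ^ n
local notation "Vec" => (Fin 3 → F)
local notation "H" => Cfsg.hermForm 3 F q
local notation "GU3" => Cfsg.GU 3 F q
local notation "SU3" => Cfsg.SU 3 F q
local notation "Pt" => IsoPt F q 3


theorem gmat_ne_zero (g : GU3) {x : Vec} (hx : x ≠ 0) : gmat g *ᵥ x ≠ 0 := fun h => hx (by
  rw [← one_mulVec x, ← gmat_one, ← inv_mul_cancel g, gmul_mulVec, h, Matrix.mulVec_zero])

/-- The image of a point. -/
noncomputable def gpt (g : GU3) (p : Pt) : Pt :=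
  pt (gmat g *ᵥ p.1.rep) (gmat_ne_zero g p.1.rep_nonzero) (by rw [GU_H]; exact p.2)


theorem gpt_pt (g : GU3) {u : Vec} (hu : u ≠ 0) (huu : H u u = 0) :
    gpt g (pt u hu huu) = pt (gmat g *ᵥ u) (gmat_ne_zero g hu) (by rw [GU_H]; exact huu) := by
  obtain ⟨a, -, ha⟩ := rep_mk u hu
  refine pt_eq_pt.2 ⟨a, ?_⟩
  show _ = gmat g *ᵥ (Projectivization.mk F u hu).rep
  rw [ha, Matrix.mulVec_smul]


theorem gpt_one (p : Pt) : gpt (1 : GU3) p = p := by
  obtain ⟨u, hu, huu, rfl⟩ := exists_pt p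
  rw [gpt_pt]
  exact pt_eq_pt.2 ⟨1, by rw [one_smul, gmat_one, one_mulVec]⟩


theorem gpt_mul (g g' : GU3) (p : Pt) : gpt (g * g') p = gpt g (gpt g' p) := by
  obtain ⟨u, hu, huu, rfl⟩ := exists_pt p
  rw [gpt_pt, gpt_pt, gpt_pt]
  exact pt_eq_pt.2 ⟨1, by rw [one_smul, gmul_mulVec]⟩

/-- `GU₃(q)` on the unital. -/
noncomputable def guPerm : GU3 →* Equiv.Perm Pt :=
  MonoidHom.toHomPerm
    { toFun := fun g => gpt g
      map_one' := funext fun p => gpt_one p
      map_mul' := fun g g' => funext fun p => gpt_mul g g' p }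


theorem guPerm_apply (g : GU3) (p : Pt) : guPerm g p = gpt g p := rfl


theorem guPerm_suToGU (s : SU3) : guPerm (suToGU s) = MulAction.toPermHom SU3 Pt s := by
  refine Equiv.ext fun p => ?_
  obtain ⟨u, hu, huu, rfl⟩ := exists_pt p
  show gpt (suToGU s) (pt u hu huu) = s • pt u hu huu
  rw [gpt_pt, smul_pt]
  rfl


theorem center_le_ker (hc : ∀ g ∈ Subgroup.center GU3, ∃ z : F, gmat g = algebraMap F _ z) :
    Subgroup.center GU3 ≤ (guPerm (F := F) (n := n)).ker := fun g hg => by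
  obtain ⟨z, hz⟩ := hc g hg
  rw [MonoidHom.mem_ker]
  refine Equiv.ext fun p => ?_
  obtain ⟨u, hu, huu, rfl⟩ := exists_pt p
  show gpt g (pt u hu huu) = pt u hu huu
  rw [gpt_pt]
  exact pt_eq_pt.2 ⟨z, by rw [hz, Algebra.algebraMap_eq_smul_one, Matrix.smul_mulVec, one_mulVec]⟩

variable (hF : Fintype.card F = (2 ^ n) ^ 2) [CharP F 2] (B : Base F n)
include hF

omit B in
theorem scalar_preserves {z : F} (hz : z ^ (q + 1) = 1) (x y : Vec) :
    H (z • x) (z • y) = H x y := by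
  rw [H_smul_left, H_smul_right, ← mul_assoc, ← pow_succ', hz, one_mul]

/-- The scalars of norm one, as elements of `GU₃(q)`. -/
noncomputable def scal {z : F} (hz : z ^ (q + 1) = 1) : GU3 :=
  guMk hF (algebraMap F _ z) fun x y => by
    rw [Algebra.algebraMap_eq_smul_one, Matrix.smul_mulVec, Matrix.smul_mulVec, one_mulVec,
      one_mulVec, scalar_preserves hF hz]

omit B in
theorem scal_mulVec {z : F} (hz : z ^ (q + 1) = 1) (x : Vec) : gmat (scal hF hz) *ᵥ x = z • x := by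
  show algebraMap F (Matrix (Fin 3) (Fin 3) F) z *ᵥ x = _
  rw [Algebra.algebraMap_eq_smul_one, Matrix.smul_mulVec, one_mulVec]

omit B in
theorem scal_mem {z : F} (hz : z ^ (q + 1) = 1) : scal hF hz ∈ Subgroup.center GU3 :=
  PGUOrder.mem_center_of_scalar _ z rfl

omit B in
/-- The norm-one group. -/
theorem card_normOne : Nat.card (powMonoidHom (q + 1) : Fˣ →* Fˣ).ker = q + 1 := by
  classical
  rw [IsCyclic.card_powMonoidHom_ker]
  have hcu : Nat.card Fˣ = (q - 1) * (q + 1) := by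
    rw [Nat.card_eq_fintype_card, Fintype.card_units, hF]
    have := Nat.sq_sub_sq q 1
    rw [one_pow, mul_comm] at this
    exact this
  rw [hcu, Nat.gcd_mul_left_left]

omit B in
theorem norm_of_mem {z : Fˣ} (hz : z ∈ (powMonoidHom (q + 1) : Fˣ →* Fˣ).ker) :
    (z : F) ^ (q + 1) = 1 := by
  rw [← Units.val_pow_eq_pow_val]
  exact congrArg Units.val hz

omit B in
theorem le_card_center : q + 1 ≤ Nat.card (Subgroup.center GU3) := by
  rw [← card_normOne hF]
  refine Nat.card_le_card_of_injective (fun z : (powMonoidHom (q + 1) : Fˣ →* Fˣ).ker =>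
    (⟨scal hF (norm_of_mem hF z.2), scal_mem hF _⟩ : Subgroup.center GU3)) fun z z' e => ?_
  have h1 : scal hF (norm_of_mem hF z.2) = scal hF (norm_of_mem hF z'.2) := congrArg Subtype.val e
  have h2 := congrArg (fun g : GU3 => (gmat g *ᵥ fun _ => (1 : F)) 0) h1
  simp only [scal_mulVec, Pi.smul_apply, smul_eq_mul, mul_one] at h2
  exact Subtype.ext (Units.ext h2)

omit B in
theorem natCard_GU3 :
    Nat.card GU3 = q ^ 3 * ((q + 1) * (q ^ 2 - 1) * (q ^ 3 + 1)) := by
  rw [natCard_GU hF]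
  norm_num [Finset.prod_range_succ, Nat.even_iff]

/-- The element fixing `e` and `f` and multiplying `w` by `d`. -/
noncomputable def hom3 {d : F} (hd : d ^ (q + 1) = 1) : GU3 :=
  guMk hF (1 + Matrix.vecMulVec ((d - 1) • B.w) fun i => B.w i ^ q) fun x y => by
    have e : ∀ x : Vec, (1 + Matrix.vecMulVec ((d - 1) • B.w) fun i => B.w i ^ q) *ᵥ x =
        x + ((d - 1) * H x B.w) • B.w := fun x => by
      rw [Matrix.add_mulVec, one_mulVec, Matrix.vecMulVec_mulVec, H_eq_dot, dotProduct_comm]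
      simp [smul_smul, mul_comm]
    rw [e, e, H_add_left, H_add_right hF, H_add_right hF, H_smul_left, H_smul_left, H_smul_right,
      H_smul_right, B.hww, ← H_conj hF y B.w, mul_pow,
      show (d - 1) ^ q = d ^ q - 1 by rw [sub_pow_char_pow, one_pow]]
    linear_combination (H x B.w * (H y B.w) ^ q) * hd

theorem hom3_mulVec {d : F} (hd : d ^ (q + 1) = 1) (x : Vec) :
    gmat (hom3 hF B hd) *ᵥ x = x + ((d - 1) * H x B.w) • B.w := by
  show (1 + Matrix.vecMulVec ((d - 1) • B.w) fun i => B.w i ^ q) *ᵥ x = _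
  rw [Matrix.add_mulVec, one_mulVec, Matrix.vecMulVec_mulVec, H_eq_dot, dotProduct_comm]
  simp [smul_smul, mul_comm]

theorem hom3_e {d : F} (hd : d ^ (q + 1) = 1) : gmat (hom3 hF B hd) *ᵥ B.e = B.e := by
  rw [hom3_mulVec, (H_eq_zero_comm hF).1 B.hwe, mul_zero, zero_smul, add_zero]

theorem hom3_f {d : F} (hd : d ^ (q + 1) = 1) : gmat (hom3 hF B hd) *ᵥ B.f = B.f := by
  rw [hom3_mulVec, (H_eq_zero_comm hF).1 B.hwf, mul_zero, zero_smul, add_zero]

theorem hom3_w {d : F} (hd : d ^ (q + 1) = 1) : gmat (hom3 hF B hd) *ᵥ B.w = d • B.w := by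
  rw [hom3_mulVec, B.hww, mul_one, sub_smul, one_smul, add_sub_cancel]

theorem hom3_inf {d : F} (hd : d ^ (q + 1) = 1) :
    gpt (hom3 hF B hd) (Identify.inf hF B) = Identify.inf hF B := by
  rw [Identify.inf, gpt_pt]
  exact pt_eq_pt.2 ⟨1, by rw [one_smul, hom3_e]⟩

theorem hom3_el {d : F} (hd : d ^ (q + 1) = 1) {p : F × F} (hp : InHerm n p) :
    InHerm n (d * p.1, p.2) ∧
      gpt (hom3 hF B hd) (Identify.el hF B p • Identify.org hF B) =
        Identify.el hF B (d * p.1, p.2) • Identify.org hF B := by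
  have hm : InHerm n (d * p.1, p.2) := by
    show p.2 + p.2 ^ q = (d * p.1) ^ (q + 1)
    rw [mul_pow, hd, one_mul]; exact hp
  refine ⟨hm, ?_⟩
  rw [Identify.org, smul_pt, smul_pt, gpt_pt]
  refine pt_eq_pt.2 ⟨1, ?_⟩
  rw [one_smul, Identify.el_f hF B hp, Identify.el_f hF B hm, Matrix.mulVec_add, Matrix.mulVec_add,
    Matrix.mulVec_smul, Matrix.mulVec_smul, hom3_e, hom3_f, hom3_w, smul_smul, mul_comm p.1]

end Cfsg.Agent.Involutions.RankOne.PGU3
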