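import Cfsg.Agent.Lib.Involutions.RankOne.PGU3.Action
import Cfsg.Agent.Lib.Involutions.RankOne.PGU3.Equivariant
import Cfsg.Agent.Lib.Involutions.RankOne.PGU3.Point
import Cfsg.Agent.Lib.Involutions.RankOne.U3.Main
import Cfsg.Agent.Lib.Classical.PGUOrder.Lower

/-!
# Groups with the involution centraliser of `PGU₃(q)` are `PGU₃(q)`

`P`, `u` and `W` act on the unital as elements of `GU₃(q)` and generate `G`.
-/

set_option autoImplicit false
set_option linter.unusedSectionVars false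
set_option linter.style.haveILetI false

namespace Cfsg.Agent.Involutions.RankOne.PGU3

open Subgroup Involutions.Basic Cfsg.Agent.Classical Cfsg.Agent.Classical.Unitary Cfsg.Agent.Forms
  Cfsg.Agent.Involutions.SylowPSUThree Cfsg.Agent.Involutions.RankOne.U3

universe u v

variable {G : Type u} [Group G] [Finite G] {n : ℕ} (P : Sylow 2 G)

local notation "HH" => Subgroup.normalizer ((P : Subgroup G) : Set G)
local notation "pt0" => ((1 : G) : G ⧸ Subgroup.normalizer ((P : Subgroup G) : Set G))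

/-- Conjugation by an element of `N(P)`. -/
def conjP {w : G} (hw : w ∈ Subgroup.normalizer ((P : Subgroup G) : Set G)) :
    ↥(P : Subgroup G) ≃* ↥(P : Subgroup G) where
  toFun x := ⟨w * x * w⁻¹, (Subgroup.mem_normalizer_iff.1 hw _).1 x.2⟩
  invFun x := ⟨w⁻¹ * x * w, by
    have h := (Subgroup.mem_normalizer_iff.1 (inv_mem hw) (x : G)).1 x.2
    rwa [inv_inv] at h⟩
  left_inv x := Subtype.ext (show w⁻¹ * (w * x * w⁻¹) * w = x by group)
  right_inv x := Subtype.ext (show w * (w⁻¹ * x * w) * w⁻¹ = x by group)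
  map_mul' x y := Subtype.ext (show w * (x * y) * w⁻¹ = w * x * w⁻¹ * (w * y * w⁻¹) by group)

theorem conjP_val {w : G} (hw : w ∈ Subgroup.normalizer ((P : Subgroup G) : Set G))
    (x : ↥(P : Subgroup G)) : ((conjP P hw x : ↥(P : Subgroup G)) : G) = w * x * w⁻¹ := rfl

variable {u : G} (hu : orderOf u = 2) (huH : u ∉ Subgroup.normalizer ((P : Subgroup G) : Set G))
  (hG : Hyp G n)
include P hu huH hG

/-- `W` acts on `P` by scalars of norm one. -/
theorem conj_scalar {F : Type v} [Field F] [Fintype F] [CharP F 2]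
    (hF : Fintype.card F = (2 ^ n) ^ 2) {e : ↥(P : Subgroup G) → F × F} (he : IsCoords n e)
    (hf : ∀ x y : ↥(P : Subgroup G), x ≠ 1 → u • ((x : G) • (u • pt0)) = (y : G) • (u • pt0) →
      e y = ((e x).1 / (e x).2, ((e x).2)⁻¹))
    {w : G} (hw : w ∈ W pt0 u) (hwH : w ∈ Subgroup.normalizer ((P : Subgroup G) : Set G)) :
    ∃ δ : F, δ ^ (2 ^ n + 1) = 1 ∧ ∀ x, e (conjP P hwH x) = (δ * (e x).1, (e x).2) := by
  have hs := setup P hu huH hG
  haveI := faithful P hu huH hG
  have hS := setting P hu huH hG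
  have e_one : e 1 = (0, 0) := by
    have h := he.map_mul 1 1
    rw [one_mul] at h
    have h1 := congrArg Prod.fst h
    have h2 := congrArg Prod.snd h
    simp only [hMul, CharTwo.add_self_eq_zero] at h1 h2
    rw [h1, zero_pow (Nat.two_pow_pos n).ne', zero_mul, add_zero] at h2
    exact Prod.ext h1 h2
  have gen : ∀ {z : G} (hz : z ∈ W pt0 u) (hzH : z ∈ Subgroup.normalizer ((P : Subgroup G) : Set G)),
      (∀ x, (e x).1 = 0 → conjP P hzH x = x) ∧
      (∀ x y, x ≠ 1 → e y = unitalMap (e x) →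
        e (conjP P hzH y) = unitalMap (e (conjP P hzH x))) := by
    intro z hz hzH
    obtain ⟨hza, hzb⟩ := RankOne.mem_D.1 (W_le hz)
    have hzu : u * z = z * u := W_t hz
    refine ⟨fun x hx => ?_, fun x y hx hy => ?_⟩
    · have hxx : x * x = 1 := he.injective (by
        rw [he.map_mul, e_one]
        simp [hMul, hx, CharTwo.add_self_eq_zero, zero_pow (Nat.two_pow_pos n).ne'])
      by_cases hx1 : x = 1
      · rw [hx1, map_one]
      have hxo : orderOf (x : G) = 2 := orderOf_two_iff.2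
        ⟨congrArg Subtype.val hxx, fun e' => hx1 (Subtype.ext e')⟩
      rw [W_eq P hu huH hG hxo x.2] at hz
      have h1 := Subgroup.mem_centralizer_singleton_iff.1 hz.2
      exact Subtype.ext (show z * x * z⁻¹ = x by rw [h1, mul_inv_cancel_right])
    · have hne : u • ((x : G) • (u • pt0)) ≠ pt0 := fun h => by
        have h1 : (x : G) • (u • pt0) = u • pt0 := by
          have h2 := congrArg (fun c => u • c) h
          rwa [smul_smul u u, hs.mul_self, one_smul] at h2
        exact hx (Subtype.ext (RankOne.inf_D hs x.2 ⟨hs.le x.2, h1⟩))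
      obtain ⟨v, hv, hv'⟩ := RankOne.exists_q hs hne
      have hvy : (⟨v, hv⟩ : ↥(P : Subgroup G)) = y :=
        he.injective ((hf x ⟨v, hv⟩ hx hv'.symm).trans hy.symm)
      subst hvy
      refine hf _ _ ((conjP P hzH).map_ne_one_iff.2 hx) ?_
      rw [conjP_val, conjP_val]
      simp only [mul_smul, inv_smul_eq_iff.2 hzb.symm]
      rw [hv', smul_smul, hzu, mul_smul]
  obtain ⟨k, hk⟩ : ∃ k, 2 ^ n = 2 * k :=
    ⟨2 ^ (n - 1), by rw [← pow_succ', Nat.sub_add_cancel (by have := hG.two_le; omega)]⟩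
  have hpow : w ^ (2 ^ n + 1) = 1 := by
    have h := congrArg Subtype.val (pow_card_eq_one' (x := (⟨w, hw⟩ : W pt0 u)))
    rwa [card_W P hu huH hG] at h
  have hsq : w ^ (k + 1) * w ^ (k + 1) = w := by
    rw [← pow_add, show k + 1 + (k + 1) = 2 ^ n + 1 + 1 by omega, pow_succ, hpow, one_mul]
  have hr := gen (pow_mem hw (k + 1)) (pow_mem hwH (k + 1))
  refine scalar_of_square he (conjP P hwH) (gen hw hwH).1 (gen hw hwH).2 hF
    (conjP P (pow_mem hwH (k + 1))) hr.1 hr.2 fun x => Subtype.ext ?_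
  show w * x * w⁻¹ = w ^ (k + 1) * (w ^ (k + 1) * x * (w ^ (k + 1))⁻¹) * (w ^ (k + 1))⁻¹
  calc w * x * w⁻¹ = w ^ (k + 1) * w ^ (k + 1) * x * (w ^ (k + 1) * w ^ (k + 1))⁻¹ := by rw [hsq]
    _ = _ := by group

/-- `G` is `PGU₃(q)`. -/
theorem ident_aux {F : Type v} [Field F] [Fintype F] [CharP F 2]
    (hF : Fintype.card F = (2 ^ n) ^ 2) :
    Nonempty (G ≃* (↥(Cfsg.GU 3 F (2 ^ n)) ⧸ Subgroup.center ↥(Cfsg.GU 3 F (2 ^ n)))) := by
  classical
  have hs := setup P hu huH hG
  haveI := faithful P hu huH hG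
  have hS := setting P hu huH hG
  obtain ⟨F₀, iF, iT, iC, ⟨fr⟩, e, he, hf⟩ := exists_coords.{u, v} P hu huH hG hF
  obtain ⟨B⟩ := exists_base (F := F) (n := n) hF
  have hb : ∀ x : ↥(P : Subgroup G), (x : G) • (u • pt0) ≠ pt0 := fun x =>
    RankOne.smul_a_ne hs (hs.le x.2) (RankOne.b_ne hs)
  have hsel : ∀ c : G ⧸ HH, c ≠ pt0 → ∃ x : ↥(P : Subgroup G), (x : G) • (u • pt0) = c := fun c hc =>
    let ⟨x, hx, h⟩ := RankOne.exists_q hs hc
    ⟨⟨x, hx⟩, h⟩
  let ι : G ⧸ HH → IsoPt F (2 ^ n) 3 := fun c =>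
    if hc : c = pt0 then Identify.inf hF B
    else Identify.el hF B (e (hsel c hc).choose) • Identify.org hF B
  have ι_a : ι pt0 = Identify.inf hF B := dif_pos rfl
  have ι_q : ∀ x : ↥(P : Subgroup G), ι ((x : G) • (u • pt0)) =
      Identify.el hF B (e x) • Identify.org hF B := by
    intro x
    show dite _ _ _ = _
    rw [dif_neg (hb x)]
    congr 3
    exact Subtype.ext (RankOne.q_unique hs (hsel _ (hb x)).choose.2 x.2 (RankOne.b_ne hs)
      (hsel _ (hb x)).choose_spec)
  have e_one : e 1 = (0, 0) := by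
    have h := he.map_mul 1 1
    rw [one_mul] at h
    have h1 := congrArg Prod.fst h
    have h2 := congrArg Prod.snd h
    simp only [hMul, CharTwo.add_self_eq_zero] at h1 h2
    rw [h1, zero_pow (Nat.two_pow_pos n).ne', zero_mul, add_zero] at h2
    exact Prod.ext h1 h2
  have ι_b : ι (u • pt0) = Identify.org hF B := by
    have h := ι_q 1
    rwa [OneMemClass.coe_one, one_smul, e_one, Identify.el_zero, one_smul] at h
  have hinj : Function.Injective ι := by
    intro c d h
    by_cases hc : c = pt0 <;> by_cases hd : d = pt0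
    · rw [hc, hd]
    · obtain ⟨y, rfl⟩ := hsel d hd
      rw [hc, ι_a, ι_q] at h
      exact absurd h.symm (Identify.el_org_ne hF B (he.mem y))
    · obtain ⟨x, rfl⟩ := hsel c hc
      rw [hd, ι_a, ι_q] at h
      exact absurd h (Identify.el_org_ne hF B (he.mem x))
    · obtain ⟨x, rfl⟩ := hsel c hc
      obtain ⟨y, rfl⟩ := hsel d hd
      rw [ι_q, ι_q] at h
      rw [he.injective (Identify.el_org_inj hF B (he.mem x) (he.mem y) h)]
  have hsurj : Function.Surjective ι := by
    intro y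
    rcases Identify.pt_cases hF B y with rfl | ⟨p, hp, rfl⟩
    · exact ⟨_, ι_a⟩
    · obtain ⟨x, rfl⟩ := he.surj p hp
      exact ⟨_, ι_q x⟩
  have ι_mul : ∀ (x : ↥(P : Subgroup G)) (c : G ⧸ HH),
      ι ((x : G) • c) = Identify.el hF B (e x) • ι c := by
    intro x c
    by_cases hc : c = pt0
    · rw [hc, show (x : G) • pt0 = pt0 from hs.le x.2, ι_a, Identify.el_inf hF B (he.mem x)]
    · obtain ⟨y, rfl⟩ := hsel c hc
      rw [smul_smul, ← Subgroup.coe_mul, ι_q, ι_q, he.map_mul,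
        (Identify.el_mul hF B (he.mem x) (he.mem y)).2, mul_smul]
  have ι_t : ∀ c : G ⧸ HH, ι (u • c) = Identify.swap hF B • ι c := by
    intro c
    by_cases hc : c = pt0
    · rw [hc, ι_b, ι_a, Identify.swap_inf]
    · obtain ⟨x, rfl⟩ := hsel c hc
      by_cases hx : x = 1
      · rw [hx, OneMemClass.coe_one, one_smul, RankOne.t_smul_b hs, ι_a, ι_b, Identify.swap_org]
      · have hne : u • ((x : G) • (u • pt0)) ≠ pt0 := fun h => by
          have h1 : (x : G) • (u • pt0) = u • pt0 := by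
            have h2 := congrArg (fun z => u • z) h
            rwa [smul_smul u u, hs.mul_self, one_smul] at h2
          exact hx (Subtype.ext (RankOne.inf_D hs x.2 ⟨hs.le x.2, h1⟩))
        obtain ⟨y, hy⟩ := hsel _ hne
        rw [← hy, ι_q, ι_q]
        refine (Identify.swap_el hF B (he.mem x) (fun h0 => hx (he.injective ?_)) (he.mem y)
          (hf x y hx hy.symm)).symm
        have h1 : (e x).1 = 0 := by
          have h := Identify.inHerm_iff.1 (he.mem x)
          rw [h0, zero_pow (Nat.two_pow_pos n).ne', add_zero] at h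
          rcases mul_eq_zero.1 h.symm with h' | h'
          · exact h'
          · exact eq_zero_of_pow_eq_zero h'
        rw [e_one]
        exact Prod.ext h1 h0
  let ε : G ⧸ HH ≃ IsoPt F (2 ^ n) 3 := Equiv.ofBijective ι ⟨hinj, hsurj⟩
  let Φ : G →* Equiv.Perm (IsoPt F (2 ^ n) 3) :=
    ε.permCongrHom.toMonoidHom.comp (MulAction.toPermHom G (G ⧸ HH))
  have hΦ : Function.Injective Φ := ε.permCongrHom.injective.comp MulAction.toPerm_injective
  have key : ∀ (g : G) (p : Cfsg.GU 3 F (2 ^ n)), (∀ c, ι (g • c) = guPerm p (ι c)) →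
      Φ g = guPerm p := by
    intro g p h
    refine Equiv.ext fun y => ?_
    show ι (g • ε.symm y) = guPerm p y
    rw [h]
    exact congrArg (guPerm p) (ε.apply_symm_apply y)
  set K := (guPerm (F := F) (n := n)).range.comap Φ with hK
  have hPK : ∀ x ∈ (P : Subgroup G), x ∈ K := fun x hx =>
    ⟨suToGU (Identify.el hF B (e ⟨x, hx⟩)), (key _ _ fun c => by
      rw [ι_mul ⟨x, hx⟩ c, guPerm_suToGU]; rfl).symm⟩
  have huK : u ∈ K :=
    ⟨suToGU (Identify.swap hF B), (key _ _ fun c => by rw [ι_t c, guPerm_suToGU]; rfl).symm⟩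
  have hWK : ∀ w ∈ W pt0 u, w ∈ K := by
    intro w hw
    obtain ⟨hwa, hwb⟩ := RankOne.mem_D.1 (W_le hw)
    have hwH : w ∈ HH := (smul_pt0 P).1 hwa
    obtain ⟨δ, hδ, hδe⟩ := conj_scalar P hu huH hG hF he hf hw hwH
    refine ⟨hom3 hF B hδ, (key _ _ fun c => ?_).symm⟩
    rw [guPerm_apply]
    by_cases hc : c = pt0
    · rw [hc, hwa, ι_a, hom3_inf]
    · obtain ⟨x, rfl⟩ := hsel c hc
      have e1 : w • (x : G) • (u • pt0) = ((conjP P hwH x : ↥(P : Subgroup G)) : G) • (u • pt0) := by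
        rw [conjP_val]
        simp only [mul_smul, inv_smul_eq_iff.2 hwb.symm]
      rw [e1, ι_q, ι_q, hδe, (hom3_el hF B hδ (he.mem x)).2]
  have hgen : genQt u (P : Subgroup G) ≤ K := (Subgroup.closure_le _).2 (by
    rintro x (hx | hx)
    · exact hPK x hx
    · rw [Set.mem_singleton_iff.1 hx]; exact huK)
  have hall : ∀ g : G, g ∈ K := by
    intro g
    obtain ⟨l, hl, d, hd, rfl⟩ := exists_gen_mul_D hS fr g
    obtain ⟨v, k, hv, hvt, hk, rfl⟩ := exists_V_mul_K hS hd
    refine mul_mem (hgen hl) (mul_mem (hWK v ?_) (hgen (Kc_le_gen hS fr hk)))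
    obtain ⟨s, hs2, hsP⟩ := exists_inv hG P
    rw [stab_inf] at hv
    rw [W_eq P hu huH hG hs2 hsP]
    exact ⟨hv, (comm_iff P hu huH hG hs2 hsP hv).1 hvt⟩
  -- the orders
  set Ψ := (guPerm (F := F) (n := n)) with hΨ
  have hle : Φ.range ≤ Ψ.range := by
    rintro _ ⟨g, rfl⟩
    exact hall g
  have h1 : Nat.card Φ.range = Nat.card G := Nat.card_congr (MonoidHom.ofInjective hΦ).toEquiv.symm
  have h2 : Nat.card ↥(Cfsg.GU 3 F (2 ^ n)) = Nat.card Ψ.range * Nat.card Ψ.ker := by
    rw [Subgroup.card_eq_card_quotient_mul_card_subgroup Ψ.ker,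
      Nat.card_congr (QuotientGroup.quotientKerEquivRange Ψ).toEquiv]
  have h3 : Nat.card ↥(Cfsg.GU 3 F (2 ^ n)) = Nat.card G * (2 ^ n + 1) := by
    rw [natCard_GU3 hF, card_G_eq P hu huH hG,
      show (2 ^ n) ^ 2 - 1 = (2 ^ n + 1) * (2 ^ n - 1) by rw [← Nat.sq_sub_sq, one_pow]]
    ring
  have hcz : Subgroup.center ↥(Cfsg.GU 3 F (2 ^ n)) ≤ Ψ.ker :=
    center_le_ker fun g hg => PGUOrder.central_eq_scalar hF (by norm_num) g hg
  have h4 := le_card_center (F := F) (n := n) hF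
  have h5 := Subgroup.card_le_of_le hcz
  have h6 := Subgroup.card_le_of_le hle
  rw [h1] at h6
  have h7 : Nat.card Ψ.ker ≤ 2 ^ n + 1 := by
    by_contra hlt
    push Not at hlt
    have := Nat.mul_lt_mul_of_le_of_lt h6 hlt Nat.card_pos
    omega
  have hker : Subgroup.center ↥(Cfsg.GU 3 F (2 ^ n)) = Ψ.ker :=
    Subgroup.eq_of_le_of_card_ge hcz (by omega)
  have h8 : Nat.card Ψ.ker = 2 ^ n + 1 := by omega
  have hrange : Φ.range = Ψ.range := Subgroup.eq_of_le_of_card_ge hle (by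
    rw [h1]
    rw [h3, h8] at h2
    exact le_of_eq (Nat.eq_of_mul_eq_mul_right (Nat.succ_pos _) h2).symm)
  exact ⟨((MonoidHom.ofInjective hΦ).trans (MulEquiv.subgroupCongr hrange)).trans
    ((QuotientGroup.quotientKerEquivRange Ψ).symm.trans
      (QuotientGroup.quotientMulEquivOfEq hker.symm))⟩

omit P hu huH in
/-- A group with the involution centraliser of `PGU₃(q)` is `PGU₃(q)`. -/
theorem ident {F : Type v} [Field F] [Fintype F] [CharP F 2]
    (hF : Fintype.card F = (2 ^ n) ^ 2) :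
    Nonempty (G ≃* (↥(Cfsg.GU 3 F (2 ^ n)) ⧸ Subgroup.center ↥(Cfsg.GU 3 F (2 ^ n)))) := by
  haveI : Fact (Nat.Prime 2) := ⟨Nat.prime_two⟩
  obtain ⟨P⟩ : Nonempty (Sylow 2 G) := inferInstance
  have hne : Subgroup.normalizer ((P : Subgroup G) : Set G) ≠ ⊤ := fun e =>
    hG.not_normal P (Subgroup.normalizer_eq_top_iff.1 e)
  obtain ⟨g, -, hg⟩ := SetLike.exists_of_lt (lt_top_iff_ne_top.2 hne)
  obtain ⟨u, hu, huH, -⟩ := exists_swap P hG
    (b := g • ((1 : G) : G ⧸ Subgroup.normalizer ((P : Subgroup G) : Set G)))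
    fun e => hg ((smul_pt0 P).1 e)
  exact ident_aux P hu huH hG hF

end Cfsg.Agent.Involutions.RankOne.PGU3
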