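import Cfsg.Agent.Lib.Involutions.RankOne.PGU3.Point
import Cfsg.Agent.Lib.Involutions.RankOne.PGU3.Data
import Cfsg.Agent.Lib.Classical.PGUOrder.Lower

/-!
# The centraliser of an involution in `PGU₃(q)`, `q` even
-/

set_option autoImplicit false
set_option linter.unusedSectionVars false

namespace Cfsg.Agent.Involutions.RankOne.PGU3

open Matrix Cfsg.Agent.Classical Cfsg.Agent.Classical.Unitary Cfsg.Agent.Forms
  Cfsg.Agent.Involutions.SylowPSUThree Cfsg.Agent.Involutions.RankOne.U3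

universe u

variable {F : Type u} [Field F] [Fintype F] {n : ℕ}

local notation "q" => 2 ^ n
local notation "Vec" => (Fin 3 → F)
local notation "H" => Cfsg.hermForm 3 F q
local notation "GU3" => Cfsg.GU 3 F q
local notation "SU3" => Cfsg.SU 3 F q
local notation "PGU" => GU3 ⧸ Subgroup.center GU3

variable (hF : Fintype.card F = (2 ^ n) ^ 2) [CharP F 2] (B : Base F n)
include hF

/-- The unipotent element as an element of `GU₃(q)`. -/
noncomputable def elG (p : F × F) : GU3 := suToGU (Identify.el hF B p)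

theorem gu_ext3 {g g' : GU3} (he : gmat g *ᵥ B.e = gmat g' *ᵥ B.e)
    (hf : gmat g *ᵥ B.f = gmat g' *ᵥ B.f) (hw : gmat g *ᵥ B.w = gmat g' *ᵥ B.w) : g = g' :=
  GU_ext fun x => by
    have hd := Cfsg.Agent.SimpleFacts.MinIndexPSUThree.Borel.decomp hF (Identify.frame B) x
    replace hd : x = H x B.f • B.e + H x B.e • B.f + H x B.w • B.w := hd
    rw [hd]
    simp only [Matrix.mulVec_add, Matrix.mulVec_smul, he, hf, hw]

theorem elG_e {p : F × F} (h : InHerm n p) : gmat (elG hF B p) *ᵥ B.e = B.e :=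
  Identify.el_e hF B h

theorem elG_f {p : F × F} (h : InHerm n p) :
    gmat (elG hF B p) *ᵥ B.f = B.f + p.1 • B.w + p.2 • B.e :=
  Identify.el_f hF B h

theorem elG_w {p : F × F} (h : InHerm n p) :
    gmat (elG hF B p) *ᵥ B.w = B.w + p.1 ^ q • B.e :=
  Identify.el_w hF B h

theorem elG_mul {p r : F × F} (hp : InHerm n p) (hr : InHerm n r) :
    elG hF B (hMul n p r) = elG hF B p * elG hF B r := by
  rw [elG, elG, elG, (Identify.el_mul hF B hp hr).2, map_mul]

omit B in
theorem inHerm_one : InHerm n ((0 : F), (1 : F)) := by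
  show (1 : F) + 1 ^ q = 0 ^ (q + 1)
  rw [one_pow, CharTwo.add_self_eq_zero, zero_pow (Nat.succ_ne_zero _)]

/-- The transvection. -/
noncomputable def ytv : GU3 := elG hF B (0, 1)

theorem ytv_mulVec (x : Vec) : gmat (ytv hF B) *ᵥ x = x + H x B.e • B.e := by
  have hd := Cfsg.Agent.SimpleFacts.MinIndexPSUThree.Borel.decomp hF (Identify.frame B) x
  replace hd : x = H x B.f • B.e + H x B.e • B.f + H x B.w • B.w := hd
  conv_lhs => rw [hd]
  simp only [ytv, Matrix.mulVec_add, Matrix.mulVec_smul, elG_e hF B (inHerm_one hF),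
    elG_f hF B (inHerm_one hF), elG_w hF B (inHerm_one hF), zero_pow (Nat.two_pow_pos n).ne',
    zero_smul, one_smul, add_zero, smul_add]
  conv_rhs => rw [hd]
  have hfe : H B.f B.e = 1 := by rw [← H_conj hF, B.hef, one_pow]
  simp only [H_add_left, H_smul_left, B.he, B.hwe, hfe, mul_zero, mul_one, zero_add, add_zero]
  abel

theorem ytv_comm_el {p : F × F} (hp : InHerm n p) : elG hF B p * ytv hF B = ytv hF B * elG hF B p := by
  rw [ytv, ← elG_mul hF B hp (inHerm_one hF), ← elG_mul hF B (inHerm_one hF) hp]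
  congr 1
  simp [hMul, zero_pow (Nat.two_pow_pos n).ne', add_comm]

theorem hom3_conj {d : F} (hd : d ^ (q + 1) = 1) {p : F × F} (hp : InHerm n p) :
    hom3 hF B hd * elG hF B p = elG hF B (d * p.1, p.2) * hom3 hF B hd := by
  have hm := (hom3_el hF B hd hp).1
  have hdd : (d * p.1) ^ q * d = p.1 ^ q := by
    rw [mul_pow, mul_comm (d ^ q), mul_assoc, ← pow_succ, hd, mul_one]
  refine gu_ext3 hF B ?_ ?_ ?_ <;> simp only [gmul_mulVec]
  · rw [elG_e hF B hp, hom3_e, elG_e hF B hm]
  · rw [elG_f hF B hp, hom3_f, elG_f hF B hm, Matrix.mulVec_add, Matrix.mulVec_add,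
      Matrix.mulVec_smul, Matrix.mulVec_smul, hom3_e, hom3_f, hom3_w, smul_smul, mul_comm p.1]
  · rw [elG_w hF B hp, hom3_w, Matrix.mulVec_smul, elG_w hF B hm, Matrix.mulVec_add,
      Matrix.mulVec_smul, hom3_e, hom3_w, smul_add, smul_smul, mul_comm d, hdd]

theorem ytv_comm_hom3 {d : F} (hd : d ^ (q + 1) = 1) :
    hom3 hF B hd * ytv hF B = ytv hF B * hom3 hF B hd := by
  rw [ytv, hom3_conj hF B hd (inHerm_one hF), mul_zero]

theorem hom3_mul {c d : F} (hc : c ^ (q + 1) = 1) (hd : d ^ (q + 1) = 1) :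
    hom3 hF B (show (c * d) ^ (q + 1) = 1 by rw [mul_pow, hc, hd, one_mul]) =
      hom3 hF B hc * hom3 hF B hd := by
  refine gu_ext3 hF B ?_ ?_ ?_ <;> simp only [gmul_mulVec]
  · rw [hom3_e, hom3_e, hom3_e]
  · rw [hom3_f, hom3_f, hom3_f]
  · rw [hom3_w, hom3_w, Matrix.mulVec_smul, hom3_w, smul_smul, mul_comm]

/-- Every element commuting with the transvection modulo scalars is a product `el * hom3` of them. -/
theorem exists_form {g : GU3} (hg : (QuotientGroup.mk' (Subgroup.center GU3)) g *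
      (QuotientGroup.mk' (Subgroup.center GU3)) (ytv hF B) =
    (QuotientGroup.mk' (Subgroup.center GU3)) (ytv hF B) * (QuotientGroup.mk' (Subgroup.center GU3)) g) :
    ∃ (p : F × F) (_ : InHerm n p) (d : F) (hd : d ^ (q + 1) = 1),
      (QuotientGroup.mk' (Subgroup.center GU3)) g =
        (QuotientGroup.mk' (Subgroup.center GU3)) (elG hF B p * hom3 hF B hd) := by
  have hq : Fintype.card F = q ^ 2 := hF
  obtain ⟨z, hzc, hz⟩ : ∃ z ∈ Subgroup.center GU3, g * ytv hF B * z = ytv hF B * g := by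
    rw [← map_mul, ← map_mul, QuotientGroup.mk'_eq_mk'] at hg
    exact hg
  obtain ⟨l, hl⟩ := PGUOrder.central_eq_scalar hq (by norm_num : 2 ≤ 3) z hzc
  have hY : ∀ x : Vec, l • (gmat g *ᵥ (x + H x B.e • B.e)) =
      gmat g *ᵥ x + H (gmat g *ᵥ x) B.e • B.e := fun x => by
    have e1 : gmat (g * ytv hF B * z) *ᵥ x = gmat (ytv hF B * g) *ᵥ x := by rw [hz]
    rw [gmul_mulVec, gmul_mulVec, gmul_mulVec, hl, Algebra.algebraMap_eq_smul_one,
      Matrix.smul_mulVec, one_mulVec, Matrix.mulVec_smul, Matrix.mulVec_smul, ytv_mulVec,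
      ytv_mulVec] at e1
    exact e1
  have he0 : gmat g *ᵥ B.e ≠ 0 := gmat_ne_zero g (B.e_ne_zero hF)
  have hl1 : l = 1 := by
    have h1 := hY B.e
    rw [B.he, zero_smul, add_zero] at h1
    set v := gmat g *ᵥ B.e with hv
    by_contra hne
    have h2 : (l - 1) • v = H v B.e • B.e := by rw [sub_smul, one_smul, h1, add_sub_cancel_left]
    have h3 : v = ((l - 1)⁻¹ * H v B.e) • B.e := by
      rw [← smul_smul, ← h2, smul_smul, inv_mul_cancel₀ (sub_ne_zero.2 hne), one_smul]
    have h4 : H v B.e = 0 := by rw [h3, H_smul_left, B.he, mul_zero]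
    exact he0 (by rw [h3, h4, mul_zero, zero_smul])
  have hz1 : z = 1 := GU_ext fun x => by rw [hl, hl1, map_one, gmat_one]
  rw [hz1, mul_one] at hz
  have hfe : H B.f B.e = 1 := by rw [← H_conj hF, B.hef, one_pow]
  have hY' : ∀ x : Vec, gmat g *ᵥ (x + H x B.e • B.e) =
      gmat g *ᵥ x + H (gmat g *ᵥ x) B.e • B.e := fun x => by
    have := hY x
    rwa [hl1, one_smul] at this
  set c := H (gmat g *ᵥ B.f) B.e with hc
  have hge : gmat g *ᵥ B.e = c • B.e := by
    have h1 := hY' B.f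
    rw [hfe, one_smul, Matrix.mulVec_add] at h1
    exact add_left_cancel h1
  have hcn : c ^ (q + 1) = 1 := by
    have h1 := GU_H g B.f B.e
    rw [hge, hfe, H_smul_right, ← hc] at h1
    rw [pow_succ]
    exact h1
  have hc0 : c ≠ 0 := fun e => by simp [e] at hcn
  have hci : (c⁻¹) ^ (q + 1) = 1 := by rw [inv_pow, hcn, inv_one]
  set g' := scal hF hci * g with hg'
  have hgg : (QuotientGroup.mk' (Subgroup.center GU3)) g =
      (QuotientGroup.mk' (Subgroup.center GU3)) g' := by
    rw [hg', map_mul, show (QuotientGroup.mk' (Subgroup.center GU3)) (scal hF hci) = 1 from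
      (QuotientGroup.eq_one_iff _).2 (scal_mem hF hci), one_mul]
  have hge' : gmat g' *ᵥ B.e = B.e := by
    rw [hg', gmul_mulVec, hge, scal_mulVec, smul_smul, inv_mul_cancel₀ hc0, one_smul]
  have h1 : H (gmat g' *ᵥ B.f) B.e = 1 := by
    have := GU_H g' B.f B.e
    rwa [hge', hfe] at this
  have h2 : H (gmat g' *ᵥ B.w) B.e = 0 := by
    have := GU_H g' B.w B.e
    rwa [hge', B.hwe] at this
  have hdec : ∀ x : Vec, x = H x B.f • B.e + H x B.e • B.f + H x B.w • B.w := fun x =>
    Cfsg.Agent.SimpleFacts.MinIndexPSUThree.Borel.decomp hF (Identify.frame B) x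
  have hgf : gmat g' *ᵥ B.f =
      B.f + H (gmat g' *ᵥ B.f) B.w • B.w + H (gmat g' *ᵥ B.f) B.f • B.e := by
    conv_lhs => rw [hdec (gmat g' *ᵥ B.f), h1, one_smul]
    abel
  have hgw : gmat g' *ᵥ B.w =
      H (gmat g' *ᵥ B.w) B.w • B.w + H (gmat g' *ᵥ B.w) B.f • B.e := by
    conv_lhs => rw [hdec (gmat g' *ᵥ B.w), h2, zero_smul, add_zero]
    abel
  set α := H (gmat g' *ᵥ B.f) B.w
  set A := H (gmat g' *ᵥ B.f) B.f
  set d := H (gmat g' *ᵥ B.w) B.w
  set γ := H (gmat g' *ᵥ B.w) B.f
  have hew : H B.e B.w = 0 := (H_eq_zero_comm hF).1 B.hwe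
  have hfw : H B.f B.w = 0 := (H_eq_zero_comm hF).1 B.hwf
  have hd : d ^ (q + 1) = 1 := by
    have h := GU_H g' B.w B.w
    rw [hgw] at h
    simp [H_add_left, H_add_right hF, H_smul_left, H_smul_right, B.hww, B.he, B.hwe, hew] at h
    rw [pow_succ]
    linear_combination h
  have hA : InHerm n (α, A) := by
    have h := GU_H g' B.f B.f
    rw [hgf] at h
    simp [H_add_left, H_add_right hF, H_smul_left, H_smul_right, B.hww, B.he, B.hf, B.hef, B.hwe,
      B.hwf, hew, hfe, hfw] at h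
    show A + A ^ q = α ^ (q + 1)
    rw [pow_succ]
    linear_combination h - (α ^ q * α) * (CharTwo.two_eq_zero : (2 : F) = 0)
  have hγ : γ = d * α ^ q := by
    have h := GU_H g' B.w B.f
    rw [hgw, hgf] at h
    simp [H_add_left, H_add_right hF, H_smul_left, H_smul_right, B.hww, B.he, B.hef, B.hwe,
      B.hwf, hew] at h
    linear_combination h - (d * α ^ q) * (CharTwo.two_eq_zero : (2 : F) = 0)
  refine ⟨(α, A), hA, d, hd, hgg.trans (congrArg _ (gu_ext3 hF B ?_ ?_ ?_))⟩ <;>
    simp only [gmul_mulVec]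
  · rw [hge', hom3_e, elG_e hF B hA]
  · rw [hgf, hom3_f, elG_f hF B hA]
  · rw [hgw, hom3_w, Matrix.mulVec_smul, elG_w hF B hA, smul_add, smul_smul, hγ]

/-- Two such products which agree modulo scalars have the same coordinates. -/
theorem form_unique {p r : F × F} (hp : InHerm n p) (hr : InHerm n r) {c d : F}
    (hc : c ^ (q + 1) = 1) (hd : d ^ (q + 1) = 1)
    (e : (QuotientGroup.mk' (Subgroup.center GU3)) (elG hF B p * hom3 hF B hc) =
      (QuotientGroup.mk' (Subgroup.center GU3)) (elG hF B r * hom3 hF B hd)) : p = r ∧ c = d := by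
  have hq : Fintype.card F = q ^ 2 := hF
  rw [QuotientGroup.mk'_eq_mk'] at e
  obtain ⟨z, hzc, hz⟩ := e
  obtain ⟨l, hl⟩ := PGUOrder.central_eq_scalar hq (by norm_num : 2 ≤ 3) z hzc
  have hx : ∀ x : Vec, gmat (elG hF B p) *ᵥ (gmat (hom3 hF B hc) *ᵥ (l • x)) =
      gmat (elG hF B r) *ᵥ (gmat (hom3 hF B hd) *ᵥ x) := fun x => by
    have e1 : gmat (elG hF B p * hom3 hF B hc * z) *ᵥ x =
        gmat (elG hF B r * hom3 hF B hd) *ᵥ x := by rw [hz]
    rw [gmul_mulVec, gmul_mulVec, gmul_mulVec, hl, Algebra.algebraMap_eq_smul_one,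
      Matrix.smul_mulVec, one_mulVec] at e1
    exact e1
  have hl1 : l = 1 := by
    have h1 := hx B.e
    rw [Matrix.mulVec_smul, hom3_e, Matrix.mulVec_smul, elG_e hF B hp, hom3_e, elG_e hF B hr] at h1
    have h2 := congrArg (fun v => H v B.f) h1
    simpa [H_smul_left, B.hef] using h2
  have hfe : H B.f B.e = 1 := by rw [← H_conj hF, B.hef, one_pow]
  have hew : H B.e B.w = 0 := (H_eq_zero_comm hF).1 B.hwe
  have hfw : H B.f B.w = 0 := (H_eq_zero_comm hF).1 B.hwf
  have hf1 := hx B.f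
  have hw1 := hx B.w
  rw [hl1, one_smul, hom3_f, elG_f hF B hp, hom3_f, elG_f hF B hr] at hf1
  rw [hl1, one_smul, hom3_w, Matrix.mulVec_smul, elG_w hF B hp, hom3_w, Matrix.mulVec_smul,
    elG_w hF B hr] at hw1
  refine ⟨Prod.ext ?_ ?_, ?_⟩
  · simpa [H_add_left, H_smul_left, B.hww, hew, hfw] using congrArg (fun v => H v B.w) hf1
  · simpa [H_add_left, H_smul_left, B.hef, B.hf, B.hwf] using congrArg (fun v => H v B.f) hf1
  · simpa [H_add_left, H_smul_left, B.hww, hew] using congrArg (fun v => H v B.w) hw1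

theorem ytv_order : orderOf ((QuotientGroup.mk' (Subgroup.center GU3)) (ytv hF B)) = 2 := by
  have h0 : InHerm n ((0, 0) : F × F) := Identify.inHerm_iff.2 (by simp)
  refine orderOf_eq_prime ?_ fun e => ?_
  · rw [← map_pow, sq, ytv, ← elG_mul hF B (inHerm_one hF) (inHerm_one hF),
      show hMul n ((0, 1) : F × F) (0, 1) = (0, 0) by
        simp [hMul, CharTwo.add_self_eq_zero, zero_pow (Nat.two_pow_pos n).ne'],
      elG, Identify.el_zero, map_one, map_one]
  · have h1 : (1 : F) ^ (q + 1) = 1 := one_pow _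
    have := (form_unique hF B (inHerm_one hF) h0 h1 h1 (by
      rw [map_mul, map_mul, show (QuotientGroup.mk' (Subgroup.center GU3)) (elG hF B ((0, 1) : F × F)) = 1
        from e, show elG hF B ((0, 0) : F × F) = 1 by rw [elG, Identify.el_zero, map_one], map_one])).1
    exact one_ne_zero (congrArg Prod.snd this)

/-- The centraliser of the transvection. -/
theorem exists_centData (hn : 2 ≤ n) :
    ∃ y : PGU, orderOf y = 2 ∧
      ∃ S A : Subgroup (Subgroup.centralizer ({y} : Set PGU)), CentData q S A := by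
  classical
  obtain ⟨B⟩ := exists_base (F := F) (n := n) hF
  set π := QuotientGroup.mk' (Subgroup.center GU3) with hπ
  set y := π (ytv hF B) with hy
  set C := Subgroup.centralizer ({y} : Set PGU) with hC
  refine ⟨y, ytv_order hF B, ?_⟩
  have h1 : (1 : F) ^ (q + 1) = 1 := one_pow _
  have h0 : InHerm n ((0, 0) : F × F) := Identify.inHerm_iff.2 (by simp)
  have hom1 : hom3 hF B h1 = 1 := by
    refine gu_ext3 hF B ?_ ?_ ?_ <;> rw [gmat_one, one_mulVec]
    · rw [hom3_e]
    · rw [hom3_f]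
    · rw [hom3_w, one_smul]
  have el0 : elG hF B ((0, 0) : F × F) = 1 := by rw [elG, Identify.el_zero, map_one]
  have hel : ∀ s ∈ heis hF B, ∃ p, InHerm n p ∧ s = Identify.el hF B p := fun s hs => by
    obtain ⟨b, c, hc⟩ := exists_coord hF B hs
    exact ⟨(b, c), Identify.inHerm_iff.2 hc.2,
      hc.ext hF B (Identify.el_coord hF B (Identify.inHerm_iff.2 hc.2))⟩
  have helm : ∀ p, InHerm n p → Identify.el hF B p ∈ heis hF B := fun p hp =>
    (Identify.el_coord hF B hp).mem hF B
  have hmemS : ∀ p, InHerm n p → π (elG hF B p) ∈ C := fun p hp => by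
    rw [hC, Subgroup.mem_centralizer_singleton_iff, hy, ← map_mul, ← map_mul, ytv_comm_el hF B hp]
  let φS : heis hF B →* C :=
    (π.comp (suToGU.comp (heis hF B).subtype)).codRestrict C fun s => by
      obtain ⟨p, hp, e⟩ := hel s s.2
      show π (suToGU (s : SU3)) ∈ C
      rw [e]; exact hmemS p hp
  let φA : (powMonoidHom (q + 1) : Fˣ →* Fˣ).ker →* C :=
    MonoidHom.mk' (fun z => ⟨π (hom3 hF B (norm_of_mem hF z.2)), by
      rw [hC, Subgroup.mem_centralizer_singleton_iff, hy, ← map_mul, ← map_mul, ytv_comm_hom3]⟩)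
      fun z z' => Subtype.ext (by
        show π (hom3 hF B _) = π (hom3 hF B _) * π (hom3 hF B _)
        rw [← map_mul, ← hom3_mul]
        try rfl)
  have φA_inj : Function.Injective φA := fun z z' e => by
    have e' : π (hom3 hF B (norm_of_mem hF z.2)) = π (hom3 hF B (norm_of_mem hF z'.2)) :=
      congrArg Subtype.val e
    exact Subtype.ext (Units.ext (form_unique hF B h0 h0 _ _ (by rw [el0, one_mul, one_mul]; exact e')).2)
  have φS_inj : Function.Injective φS := fun s s' e => by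
    obtain ⟨p, hp, es⟩ := hel s s.2
    obtain ⟨r, hr, es'⟩ := hel s' s'.2
    have e' : π (suToGU (s : SU3)) = π (suToGU (s' : SU3)) := congrArg Subtype.val e
    rw [es, es'] at e'
    obtain ⟨rfl, -⟩ := form_unique hF B hp hr h1 h1 (by rw [hom1, mul_one, mul_one]; exact e')
    exact Subtype.ext (es.trans es'.symm)
  have hform : ∀ c : C, ∃ (p : F × F) (_ : InHerm n p) (d : F) (hd : d ^ (q + 1) = 1),
      (c : PGU) = π (elG hF B p) * π (hom3 hF B hd) := fun c => by
    obtain ⟨g, hg⟩ := QuotientGroup.mk'_surjective (Subgroup.center GU3) (c : PGU)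
    obtain ⟨p, hp, d, hd, e⟩ := exists_form hF B (g := g) (by
      rw [← hπ, hg]; exact Subgroup.mem_centralizer_singleton_iff.1 c.2)
    exact ⟨p, hp, d, hd, by rw [← hg, ← map_mul]; exact e⟩
  have hmemA : ∀ d (hd : d ^ (q + 1) = 1) (c : C), (c : PGU) = π (hom3 hF B hd) → c ∈ φA.range :=
    fun d hd c e => by
      refine ⟨⟨Units.mk0 d (fun e => by simp [e] at hd), Units.ext (by
        rw [powMonoidHom_apply, Units.val_pow_eq_pow_val]; exact hd)⟩, Subtype.ext e.symm⟩
  have hmemSr : ∀ p, InHerm n p → ∀ c : C, (c : PGU) = π (elG hF B p) → c ∈ φS.range :=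
    fun p hp c e => ⟨⟨_, helm p hp⟩, Subtype.ext e.symm⟩
  have hconj : ∀ d (hd : d ^ (q + 1) = 1) p, InHerm n p →
      π (hom3 hF B hd) * π (elG hF B p) = π (elG hF B (d * p.1, p.2)) * π (hom3 hF B hd) :=
    fun d hd p hp => by rw [← map_mul, hom3_conj hF B hd hp, map_mul]
  have hinv2 : ∀ s : heis hF B, φS s * φS s = 1 → s * s = 1 := fun s e =>
    φS_inj (by rw [map_mul, map_one]; exact e)
  have heis0 : ∀ s : heis hF B, s * s = 1 → ∀ p, InHerm n p → (s : SU3) = Identify.el hF B p → p.1 = 0 :=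
    fun s hs p hp e => (mul_self_eq_one hF B
      (show IsCoord B (s : SU3) p.1 p.2 by rw [e]; exact Identify.el_coord hF B hp)).1 hs
  refine ⟨φS.range, φA.range, ?_⟩
  have hnorm : ∀ p, InHerm n p → ∀ d (hd : d ^ (q + 1) = 1) (r : F × F), InHerm n r →
      ∀ c x : C, (c : PGU) = π (elG hF B p) * π (hom3 hF B hd) → (x : PGU) = π (elG hF B r) →
        c * x * c⁻¹ ∈ φS.range := by
    intro p hp d hd r hr c x ec ex
    obtain ⟨hm, -⟩ := hom3_el hF B hd hr
    have e : c * x * c⁻¹ = φS ⟨_, helm p hp⟩ * φS ⟨_, helm _ hm⟩ * (φS ⟨_, helm p hp⟩)⁻¹ := by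
      refine Subtype.ext ?_
      show (c : PGU) * x * (c : PGU)⁻¹ =
        π (elG hF B p) * π (elG hF B (d * r.1, r.2)) * (π (elG hF B p))⁻¹
      rw [ec, ex, mul_assoc (π (elG hF B p)), hconj d hd r hr]
      group
    rw [e]
    exact mul_mem (mul_mem ⟨_, rfl⟩ ⟨_, rfl⟩) (inv_mem ⟨_, rfl⟩)
  exact
  { normal := ⟨fun x hx c => by
      obtain ⟨s, rfl⟩ := hx
      obtain ⟨p, hp, d, hd, ec⟩ := hform c
      obtain ⟨r, hr, es⟩ := hel s s.2
      exact hnorm p hp d hd r hr c (φS s) ec (by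
        show π (suToGU (s : SU3)) = _
        rw [es]; rfl)⟩
    card_S := by
      rw [← Nat.card_congr (MonoidHom.ofInjective φS_inj).toEquiv, card_heis hF B]
    suzuki := isSuzukiTwoGroup_congr (MonoidHom.ofInjective φS_inj) (isSuzukiTwoGroup hF B hn)
    card_center := by
      rw [← Nat.card_congr (Subgroup.centerCongr (MonoidHom.ofInjective φS_inj)).toEquiv,
        SylowPSUThree.card_center hF B]
    involution := by
      rintro _ ⟨s, rfl⟩ hs c
      obtain ⟨p, hp, es⟩ := hel s s.2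
      have hp0 := heis0 s (hinv2 s hs) p hp es
      obtain ⟨r, hr, d, hd, ec⟩ := hform c
      refine Subtype.ext ?_
      show π (suToGU (s : SU3)) * (c : PGU) = (c : PGU) * π (suToGU (s : SU3))
      rw [es, ec, ← elG]
      have e1 : π (elG hF B p) * π (elG hF B r) = π (elG hF B r) * π (elG hF B p) := by
        rw [← map_mul, ← map_mul, ← elG_mul hF B hp hr, ← elG_mul hF B hr hp]
        congr 2
        simp [hMul, hp0, zero_pow (Nat.two_pow_pos n).ne', add_comm]
      have e2 := hconj d hd p hp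
      rw [show ((d * p.1, p.2) : F × F) = p by rw [hp0, mul_zero, ← hp0]] at e2
      rw [← mul_assoc, e1, mul_assoc, ← e2, mul_assoc]
    center_sq := by
      rintro _ ⟨s, rfl⟩ hs
      rw [← map_mul, SylowPSUThree.isPow_two hF B s (Subgroup.mem_center_iff.2 fun y =>
        φS_inj (by rw [map_mul, map_mul]; exact (hs _ ⟨y, rfl⟩).symm)), map_one]
    card_A := by
      rw [← Nat.card_congr (MonoidHom.ofInjective φA_inj).toEquiv, card_normOne hF]
    cyclic_A := isCyclic_of_surjective φA.rangeRestrict φA.rangeRestrict_surjective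
    exists_mul := fun c => by
      obtain ⟨p, hp, d, hd, ec⟩ := hform c
      refine ⟨φS ⟨_, helm p hp⟩, ⟨_, rfl⟩, (φS ⟨_, helm p hp⟩)⁻¹ * c, ?_, (mul_inv_cancel_left _ _).symm⟩
      refine hmemA d hd _ ?_
      show (π (elG hF B p))⁻¹ * (c : PGU) = _
      rw [ec, inv_mul_cancel_left]
    fpf := by
      rintro _ ⟨z, rfl⟩ hz _ ⟨s, rfl⟩ e
      obtain ⟨p, hp, es⟩ := hel s s.2
      have e' : π (suToGU (s : SU3)) * π (hom3 hF B (norm_of_mem hF z.2)) =
          π (hom3 hF B (norm_of_mem hF z.2)) * π (suToGU (s : SU3)) := congrArg Subtype.val e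
      have hzn := norm_of_mem hF z.2
      rw [es, ← elG, hconj _ hzn p hp, ← map_mul, ← map_mul] at e'
      obtain ⟨e1, -⟩ := form_unique hF B hp (hom3_el hF B hzn hp).1 hzn hzn e'
      have hz1 : ((z : Fˣ) : F) ≠ 1 := fun e2 => hz (by
        rw [show z = 1 from Subtype.ext (Units.ext e2), map_one])
      have e3 : p.1 = (z : Fˣ) * p.1 := congrArg Prod.fst e1
      have hp0 : p.1 = 0 := by
        by_contra h
        exact hz1 (mul_right_cancel₀ h ((one_mul _).trans e3)).symm
      rw [← map_mul, (mul_self_eq_one hF B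
        (show IsCoord B (s : SU3) p.1 p.2 by rw [es]; exact Identify.el_coord hF B hp)).2 hp0, map_one]
    conj_into := fun c hc => by
      obtain ⟨p, hp, d, hd, ec⟩ := hform c
      by_cases hd1 : d = 1
      · subst hd1
        refine ⟨1, one_mem _, ?_⟩
        rw [one_mul, inv_one, mul_one]
        rw [hom1, map_one, mul_one] at ec
        obtain ⟨s, rfl⟩ := hmemSr p hp c ec
        obtain ⟨k, hk⟩ := isPGroup_heis hF B s
        have h2 : orderOf (φS s) ∣ 2 ^ k :=
          orderOf_dvd_of_pow_eq_one (by rw [← map_pow, hk, map_one])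
        rw [orderOf_eq_one_iff.1
          (Nat.eq_one_of_dvd_coprimes ((Nat.coprime_two_left.2 hc).pow_left k) h2 dvd_rfl)]
        exact one_mem _
      have hd1' : 1 + d ≠ 0 := fun e => hd1 (CharTwo.add_eq_zero.1 e).symm
      obtain ⟨τ, hτ⟩ := exists_trace_eq hF (norm_fixed hF (p.1 / (1 + d)))
      set r : F × F := (p.1 / (1 + d), τ) with hr'
      have hr : InHerm n r := Identify.inHerm_iff.2 hτ
      set σ := φS ⟨_, helm r hr⟩ with hσ
      refine ⟨σ, ⟨_, rfl⟩, ?_⟩
      obtain ⟨p', hp', d', hd', ec'⟩ := hform (σ * c * σ⁻¹)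
      obtain ⟨hm, -⟩ := hom3_el hF B hd' hr
      have e1 : π (elG hF B (hMul n r p)) * π (hom3 hF B hd) =
          π (elG hF B (hMul n p' (d' * r.1, r.2))) * π (hom3 hF B hd') := by
        rw [elG_mul hF B hr hp, elG_mul hF B hp' hm, map_mul, map_mul, mul_assoc, ← ec,
          mul_assoc (π (elG hF B p')), ← hconj d' hd' r hr, ← mul_assoc, ← ec']
        show π (elG hF B r) * (c : PGU) = π (elG hF B r) * c * (π (elG hF B r))⁻¹ * π (elG hF B r)
        rw [inv_mul_cancel_right]
      obtain ⟨e2, rfl⟩ := form_unique hF B (Identify.el_mul hF B hr hp).1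
        (Identify.el_mul hF B hp' hm).1 hd hd' (by rw [map_mul, map_mul]; exact e1)
      have hp'0 : p'.1 = 0 := by
        have e3 : r.1 + p.1 = p'.1 + d * r.1 := congrArg Prod.fst e2
        have e4 : (1 + d) * r.1 = p.1 := by rw [hr']; exact mul_div_cancel₀ _ hd1'
        linear_combination -e3 + e4 + (p.1 - d * r.1) * (CharTwo.two_eq_zero : (2 : F) = 0)
      -- a product of two commuting elements of coprime order
      have hsq : elG hF B p' * elG hF B p' = 1 := by
        rw [← elG_mul hF B hp' hp', ← el0]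
        congr 1
        simp [hMul, hp'0, CharTwo.add_self_eq_zero, zero_pow (Nat.two_pow_pos n).ne']
      have hcomm : Commute (π (elG hF B p')) (π (hom3 hF B hd)) := by
        have := hconj d hd p' hp'
        rw [show ((d * p'.1, p'.2) : F × F) = p' by rw [hp'0, mul_zero, ← hp'0]] at this
        exact this.symm
      set o := orderOf (σ * c * σ⁻¹) with ho
      have hodd : Odd o := by rwa [ho, Cfsg.Agent.Involutions.Basic.orderOf_conj]
      have hpow : (π (elG hF B p')) ^ o * (π (hom3 hF B hd)) ^ o = 1 := by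
        rw [← hcomm.mul_pow, ← ec', ← SubmonoidClass.coe_pow, ho, pow_orderOf_eq_one]; rfl
      have hpo : (π (elG hF B p')) ^ o = π (elG hF B p') := by
        obtain ⟨j, hj⟩ := hodd
        rw [hj, pow_succ, pow_mul, sq, ← map_mul, hsq, map_one, one_pow, one_mul]
      rw [hpo, ← map_pow] at hpow
      have hhom : ∀ i : ℕ, ∃ (e : F) (he : e ^ (q + 1) = 1), hom3 hF B hd ^ i = hom3 hF B he := by
        intro i
        induction i with
        | zero => exact ⟨1, h1, by rw [pow_zero, hom1]⟩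
        | succ i ih =>
          obtain ⟨e, he, ee⟩ := ih
          exact ⟨e * d, by rw [mul_pow, he, hd, one_mul], by rw [pow_succ, ee, ← hom3_mul]⟩
      obtain ⟨d2, hd2, e5⟩ := hhom o
      rw [e5, ← map_mul] at hpow
      obtain ⟨e6, -⟩ := form_unique hF B hp' h0 hd2 h1 (by rw [el0, hom1, mul_one, map_one]; exact hpow)
      refine hmemA d hd _ ?_
      rw [ec', e6, el0, map_one, one_mul] }

end Cfsg.Agent.Involutions.RankOne.PGU3
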