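import Cfsg.Agent.Lib.Involutions.RankOne.PGU3.Data
import Cfsg.Agent.Lib.Involutions.StronglyEmbedded

/-!
# Groups with the involution centraliser of `PGU₃(q)`, `q` even: the normaliser of a Sylow 2-subgroup

`H = N(P)` is strongly embedded; for an involution `s` of `P` its centraliser `C(s)` is normal in `H`
and is the centraliser of every involution of `P`.
-/

set_option autoImplicit false
set_option linter.unusedSectionVars false
set_option linter.style.haveILetI false

namespace Cfsg.Agent.Involutions.RankOne.PGU3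

open Subgroup Involutions.Basic

universe u

/-- The hypotheses, with the centraliser given by its structure. -/
structure Hyp (G : Type u) [Group G] (n : ℕ) : Prop where
  two_le : 2 ≤ n
  even : Even (Nat.card G)
  conj : ∀ s t : G, orderOf s = 2 → orderOf t = 2 → IsConj s t
  cent : ∀ x : G, orderOf x = 2 →
    ∃ S A : Subgroup (Subgroup.centralizer ({x} : Set G)), CentData (2 ^ n) S A
  not_normal : ∀ P : Sylow 2 G, ¬ (P : Subgroup G).Normal

section Arith

variable {n : ℕ} (hn : 2 ≤ n)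
include hn

theorem four_le : 4 ≤ 2 ^ n := le_trans (le_of_eq (by norm_num)) (Nat.pow_le_pow_right two_pos hn)

theorem odd_succ : Odd (2 ^ n + 1) := (Nat.even_pow.2 ⟨even_two, by omega⟩ : Even (2 ^ n)).add_one

theorem coprime_succ_pow (k : ℕ) : Nat.Coprime (2 ^ n + 1) ((2 ^ n) ^ k) :=
  ((Nat.coprime_two_right.2 (odd_succ hn)).pow_right n).pow_right k

theorem coprime_succ_pred : Nat.Coprime (2 ^ n + 1) (2 ^ n - 1) := by
  have h1 := four_le hn
  rw [show 2 ^ n + 1 = 2 + (2 ^ n - 1) by omega, Nat.coprime_add_self_left, Nat.coprime_two_left]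
  exact Nat.Even.sub_odd (by omega) (Nat.even_pow.2 ⟨even_two, by omega⟩) odd_one

end Arith

variable {G : Type u} [Group G] [Finite G] {n : ℕ} (hG : Hyp G n)

section Cent

variable {x : G} {S A : Subgroup (Subgroup.centralizer ({x} : Set G))} (hd : CentData (2 ^ n) S A)
include hG hd

theorem cent_disjoint {b : Subgroup.centralizer ({x} : Set G)} (hS : b ∈ S) (hA : b ∈ A) : b = 1 := by
  have h1 := orderOf_dvd_natCard (⟨b, hS⟩ : S)
  have h2 := orderOf_dvd_natCard (⟨b, hA⟩ : A)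
  rw [Subgroup.orderOf_mk, hd.card_S] at h1
  rw [Subgroup.orderOf_mk, hd.card_A] at h2
  exact orderOf_eq_one_iff.1 (Nat.eq_one_of_dvd_coprimes (coprime_succ_pow hG.two_le 3) h2 h1)

theorem cent_card :
    Nat.card (Subgroup.centralizer ({x} : Set G)) = (2 ^ n) ^ 3 * (2 ^ n + 1) := by
  rw [← hd.card_S, ← hd.card_A, ← Nat.card_prod]
  refine (Nat.card_eq_of_bijective (fun p : S × A => (p.1 : Subgroup.centralizer ({x} : Set G)) * p.2)
    ⟨fun p r e => ?_, fun c => ?_⟩).symm
  · have h1 : (r.1 : Subgroup.centralizer ({x} : Set G))⁻¹ * p.1 = r.2 * (p.2 : Subgroup.centralizer ({x} : Set G))⁻¹ := by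
      rw [eq_mul_inv_iff_mul_eq, mul_assoc, show (p.1 : Subgroup.centralizer ({x} : Set G)) * p.2 =
        r.1 * r.2 from e, inv_mul_cancel_left]
    have h2 := cent_disjoint hG hd (mul_mem (inv_mem r.1.2) p.1.2)
      (h1 ▸ mul_mem r.2.2 (inv_mem p.2.2))
    refine Prod.ext (Subtype.ext (inv_mul_eq_one.1 h2).symm) (Subtype.ext ?_)
    rw [h1, mul_inv_eq_one] at h2
    exact h2.symm
  · obtain ⟨s, hs, b, hb, rfl⟩ := hd.exists_mul c
    exact ⟨(⟨s, hs⟩, ⟨b, hb⟩), rfl⟩

theorem cent_index : S.index = 2 ^ n + 1 := by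
  have h := S.card_mul_index
  rw [cent_card hG hd, hd.card_S] at h
  exact Nat.eq_of_mul_eq_mul_left (by positivity) h

/-- Elements of 2-power order lie in `S`. -/
theorem cent_two_mem {c : Subgroup.centralizer ({x} : Set G)} {k : ℕ} (hc : c ^ (2 ^ k) = 1) :
    c ∈ S := by
  haveI := hd.normal
  have h1 : orderOf (QuotientGroup.mk' S c) ∣ 2 ^ k :=
    orderOf_dvd_of_pow_eq_one (by rw [← map_pow, hc, map_one])
  have h2 : orderOf (QuotientGroup.mk' S c) ∣ 2 ^ n + 1 := by
    rw [← cent_index hG hd, Subgroup.index_eq_card]; exact orderOf_dvd_natCard _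
  exact (QuotientGroup.eq_one_iff c).1 (orderOf_eq_one_iff.1
    (Nat.eq_one_of_dvd_coprimes ((Nat.coprime_two_right.2 (odd_succ hG.two_le)).pow_right k) h2 h1))

/-- The Sylow 2-subgroup as a subgroup of `G`. -/
theorem cent_sub {T : Subgroup G} (hT : IsPGroup 2 T)
    (hle : T ≤ Subgroup.centralizer ({x} : Set G)) : T ≤ S.map (Subgroup.subtype _) := fun y hy => by
  obtain ⟨k, hk⟩ := hT ⟨y, hy⟩
  have hy' : y ^ (2 ^ k) = 1 := congrArg Subtype.val hk
  exact ⟨⟨y, hle hy⟩, cent_two_mem hG hd (k := k) (Subtype.ext hy'), rfl⟩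

omit hG in
theorem cent_card_map : Nat.card (S.map (Subgroup.subtype _)) = (2 ^ n) ^ 3 := by
  rw [Subgroup.card_map_of_injective (Subgroup.subtype_injective _), hd.card_S]

end Cent

include hG

theorem isPGroup_of_card {T : Subgroup G} (h : Nat.card T = (2 ^ n) ^ 3) : IsPGroup 2 T :=
  IsPGroup.of_card (n := n * 3) (by rw [h, ← pow_mul])

/-- All involutions of a Sylow 2-subgroup are central in it, and it is the Sylow subgroup of their
centralisers. -/
theorem sylow_eq (P : Sylow 2 G) {x : G} (hx : orderOf x = 2) (hxP : x ∈ P)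
    {S A : Subgroup (Subgroup.centralizer ({x} : Set G))} (hd : CentData (2 ^ n) S A) :
    (P : Subgroup G) = S.map (Subgroup.subtype _) := by
  haveI : Fact (Nat.Prime 2) := ⟨Nat.prime_two⟩
  -- a central involution
  obtain ⟨z, hz, hzc⟩ : ∃ z : G, orderOf z = 2 ∧ z ∈ P ∧ ∀ y ∈ P, y * z = z * y := by
    haveI : Nontrivial P := by
      rw [Subgroup.nontrivial_iff_ne_bot]
      intro e
      have : x ∈ (P : Subgroup G) := hxP
      rw [e, Subgroup.mem_bot] at this
      exact Basic.ne_one hx this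
    haveI := P.2.center_nontrivial
    have h2 : 2 ∣ Nat.card (Subgroup.center P) := by
      obtain ⟨k, hk0, hk⟩ := (P.2.to_subgroup (Subgroup.center P)).nontrivial_iff_card.1 inferInstance
      rw [hk]; exact dvd_pow_self 2 (by omega)
    obtain ⟨⟨⟨z, hzP⟩, hzc⟩, hz⟩ := exists_prime_orderOf_dvd_card' 2 h2
    rw [Subgroup.orderOf_mk, Subgroup.orderOf_mk] at hz
    exact ⟨z, hz, hzP, fun y hy => congrArg Subtype.val (Subgroup.mem_center_iff.1 hzc ⟨y, hy⟩)⟩
  obtain ⟨T, B, hT⟩ := hG.cent z hz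
  have hPz : (P : Subgroup G) ≤ Subgroup.centralizer ({z} : Set G) := fun y hy =>
    Subgroup.mem_centralizer_singleton_iff.2 (hzc.2 y hy)
  have eT : (P : Subgroup G) = T.map (Subgroup.subtype _) :=
    (P.3 (isPGroup_of_card hG (cent_card_map hT)) (cent_sub hG hT P.2 hPz)).symm
  -- so `x` is central in `P`
  have hPx : (P : Subgroup G) ≤ Subgroup.centralizer ({x} : Set G) := fun y hy => by
    rw [Subgroup.mem_centralizer_singleton_iff]
    have hx' : x ∈ T.map (Subgroup.subtype _) := eT ▸ hxP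
    obtain ⟨x', hx'T, rfl⟩ := hx'
    exact (congrArg Subtype.val (hT.involution x' hx'T
      (Subtype.ext (show (x' : G) * x' = 1 from inv_sq_one hx)) ⟨y, hPz hy⟩)).symm
  exact (P.3 (isPGroup_of_card hG (cent_card_map hd)) (cent_sub hG hd P.2 hPx)).symm

theorem card_sylow (P : Sylow 2 G) : Nat.card P = (2 ^ n) ^ 3 := by
  haveI : Fact (Nat.Prime 2) := ⟨Nat.prime_two⟩
  obtain ⟨x, hx⟩ := exists_prime_orderOf_dvd_card' (G := G) 2 (even_iff_two_dvd.1 hG.even)
  obtain ⟨P', hP'⟩ := (IsPGroup.of_card (G := Subgroup.zpowers x) (p := 2) (n := 1)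
    (by rw [Nat.card_zpowers, hx, pow_one])).exists_le_sylow
  obtain ⟨S, A, hd⟩ := hG.cent x hx
  have e := sylow_eq hG P' hx (hP' (Subgroup.mem_zpowers x)) hd
  rw [Nat.card_congr (P.equiv P').toEquiv]
  show Nat.card (P' : Subgroup G) = _
  rw [e, cent_card_map hd]

theorem exists_inv (P : Sylow 2 G) : ∃ x : G, orderOf x = 2 ∧ x ∈ P := by
  haveI : Fact (Nat.Prime 2) := ⟨Nat.prime_two⟩
  have h2 : 2 ∣ Nat.card P := by
    rw [card_sylow hG P, ← pow_mul]
    exact dvd_pow_self 2 (by have := hG.two_le; omega)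
  obtain ⟨⟨x, hx⟩, hx2⟩ := exists_prime_orderOf_dvd_card' 2 h2
  exact ⟨x, by rwa [Subgroup.orderOf_mk] at hx2, hx⟩

/-- An involution lies in one Sylow 2-subgroup. -/
theorem sylow_unique (P P' : Sylow 2 G) {x : G} (hx : orderOf x = 2) (h : x ∈ P) (h' : x ∈ P') :
    P = P' := by
  obtain ⟨S, A, hd⟩ := hG.cent x hx
  exact Sylow.ext ((sylow_eq hG P hx h hd).trans (sylow_eq hG P' hx h' hd).symm)

/-- Centralisers of involutions lie in the normaliser of their Sylow subgroup. -/
theorem cent_le (P : Sylow 2 G) {x : G} (hx : orderOf x = 2) (h : x ∈ P) :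
    Subgroup.centralizer ({x} : Set G) ≤ Subgroup.normalizer ((P : Subgroup G) : Set G) := by
  intro g hg
  obtain ⟨S, A, hd⟩ := hG.cent x hx
  have e := sylow_eq hG P hx h hd
  haveI := hd.normal
  rw [Subgroup.mem_normalizer_iff]
  intro y
  rw [e]
  constructor
  · rintro ⟨z, hz, rfl⟩
    exact ⟨⟨g, hg⟩ * z * ⟨g, hg⟩⁻¹, ‹S.Normal›.conj_mem z hz ⟨g, hg⟩, rfl⟩
  · rintro ⟨z, hz, e'⟩
    exact ⟨⟨g, hg⟩⁻¹ * z * ⟨g, hg⟩, by simpa using ‹S.Normal›.conj_mem z hz ⟨g, hg⟩⁻¹, by
      show g⁻¹ * (z : G) * g = y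
      rw [show (z : G) = g * y * g⁻¹ from e']; group⟩

/-- The involutions of `N(P)` are those of `P`. -/
theorem inv_mem_sylow (P : Sylow 2 G) {x : G} (hx : orderOf x = 2)
    (h : x ∈ Subgroup.normalizer ((P : Subgroup G) : Set G)) : x ∈ P := by
  have hz : IsPGroup 2 (Subgroup.zpowers x) :=
    IsPGroup.of_card (n := 1) (by rw [Nat.card_zpowers, hx, pow_one])
  have hle : Subgroup.zpowers x ≤ Subgroup.normalizer ((P : Subgroup G) : Set G) :=
    Subgroup.zpowers_le.2 h
  have := P.3 (IsPGroup.to_sup_of_normal_right' hz P.2 hle) le_sup_right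
  show x ∈ (P : Subgroup G)
  rw [← this]
  exact Subgroup.mem_sup_left (Subgroup.mem_zpowers x)

theorem stronglyEmbedded (P : Sylow 2 G) :
    Cfsg.IsStronglyEmbedded (Subgroup.normalizer ((P : Subgroup G) : Set G)) := by
  obtain ⟨x, hx, hxP⟩ := exists_inv hG P
  refine Involutions.StronglyEmbedded.of_conj ?_ ?_ fun t ht ht2 g hg => ?_
  · exact fun e => hG.not_normal P (Subgroup.normalizer_eq_top_iff.1 e)
  · refine even_iff_two_dvd.2 ?_
    have h1 := orderOf_dvd_natCard
      (⟨x, Subgroup.le_normalizer hxP⟩ : Subgroup.normalizer ((P : Subgroup G) : Set G))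
    rwa [Subgroup.orderOf_mk, hx] at h1
  · have htP := inv_mem_sylow hG P ht2 ht
    have hgP := inv_mem_sylow hG P (by rw [orderOf_conj, ht2]) hg
    have h1 : g * t * g⁻¹ ∈ g • P := by
      show g * t * g⁻¹ ∈ ((g • P : Sylow 2 G) : Subgroup G)
      rw [Sylow.coe_subgroup_smul]
      exact ⟨t, htP, rfl⟩
    exact Sylow.smul_eq_iff_mem_normalizer.1
      (sylow_unique hG P (g • P) (by rw [orderOf_conj, ht2]) hgP h1).symm

/-- The centraliser of an involution of `P` centralises all of them. -/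
theorem cent_eq (P : Sylow 2 G) {x y : G} (hx : orderOf x = 2) (hxP : x ∈ P) (hy : orderOf y = 2)
    (hyP : y ∈ P) : Subgroup.centralizer ({x} : Set G) = Subgroup.centralizer ({y} : Set G) := by
  suffices h : ∀ {x y : G}, orderOf x = 2 → x ∈ P → orderOf y = 2 → y ∈ P →
      Subgroup.centralizer ({x} : Set G) ≤ Subgroup.centralizer ({y} : Set G) from
    le_antisymm (h hx hxP hy hyP) (h hy hyP hx hxP)
  intro x y hx hxP hy hyP g hg
  obtain ⟨S, A, hd⟩ := hG.cent x hx
  have e := sylow_eq hG P hx hxP hd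
  have hy' : y ∈ S.map (Subgroup.subtype _) := e ▸ hyP
  obtain ⟨y', hy'S, rfl⟩ := hy'
  exact Subgroup.mem_centralizer_singleton_iff.2 (congrArg Subtype.val (hd.involution y' hy'S
    (Subtype.ext (show (y' : G) * y' = 1 from inv_sq_one hy)) ⟨g, hg⟩)).symm

/-- The number of involutions of `N(P)`. -/
theorem card_involutions (P : Sylow 2 G) :
    Nat.card {t : G // orderOf t = 2 ∧ t ∈ Subgroup.normalizer ((P : Subgroup G) : Set G)} =
      2 ^ n - 1 := by
  classical
  obtain ⟨x, hx, hxP⟩ := exists_inv hG P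
  obtain ⟨S, A, hd⟩ := hG.cent x hx
  have e := sylow_eq hG P hx hxP hd
  have h1 : Nat.card {z : Subgroup.center S // z ≠ 1} = 2 ^ n - 1 := by
    haveI := Fintype.ofFinite (Subgroup.center S)
    rw [Nat.card_eq_fintype_card, Fintype.card_subtype_compl, Fintype.card_subtype_eq,
      ← Nat.card_eq_fintype_card, hd.card_center]
  rw [← h1]
  symm
  refine Nat.card_eq_of_bijective (fun z => ⟨(((z.1 : S) : Subgroup.centralizer ({x} : Set G)) : G),
    ?_⟩) ⟨fun z z' he => ?_, fun ⟨t, ht, htH⟩ => ?_⟩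
  · have hz := hd.center_sq _ (z.1 : S).2 fun y hy =>
      congrArg Subtype.val (Subgroup.mem_center_iff.1 z.1.2 ⟨y, hy⟩).symm
    refine ⟨orderOf_two_iff.2 ⟨congrArg Subtype.val hz, fun e1 =>
      z.2 (Subtype.ext (Subtype.ext (Subtype.ext e1)))⟩, Subgroup.le_normalizer ?_⟩
    rw [e]
    exact ⟨_, (z.1 : S).2, rfl⟩
  · dsimp only at he
    exact Subtype.ext (Subtype.ext (Subtype.ext (Subtype.ext (congrArg Subtype.val he :))))
  · have htP := inv_mem_sylow hG P ht htH
    have ht' : t ∈ S.map (Subgroup.subtype _) := e ▸ htP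
    obtain ⟨t', ht'S, rfl⟩ := ht'
    have hsq : t' * t' = 1 := Subtype.ext (show (t' : G) * t' = 1 from inv_sq_one ht)
    refine ⟨⟨⟨⟨t', ht'S⟩, Subgroup.mem_center_iff.2 fun y => Subtype.ext
      (hd.involution t' ht'S hsq y).symm⟩, fun e1 => ?_⟩, rfl⟩
    have e2 : t' = 1 := congrArg (fun w : Subgroup.center S => ((w : S) :
      Subgroup.centralizer ({x} : Set G))) e1
    exact Basic.ne_one ht (by rw [e2]; rfl)

/-- `C(s)` is normal in `N(P)`. -/
theorem conj_mem_cent (P : Sylow 2 G) {s g c : G} (hs : orderOf s = 2) (hsP : s ∈ P)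
    (hg : g ∈ Subgroup.normalizer ((P : Subgroup G) : Set G))
    (hc : c ∈ Subgroup.centralizer ({s} : Set G)) :
    g * c * g⁻¹ ∈ Subgroup.centralizer ({s} : Set G) := by
  have hs' : g * s * g⁻¹ ∈ P := (Subgroup.mem_normalizer_iff.1 hg s).1 hsP
  rw [cent_eq hG P hs hsP (y := g * s * g⁻¹) (by rw [orderOf_conj, hs]) hs',
    Subgroup.mem_centralizer_singleton_iff]
  calc g * c * g⁻¹ * (g * s * g⁻¹) = g * (c * s) * g⁻¹ := by group
    _ = g * (s * c) * g⁻¹ := by rw [Subgroup.mem_centralizer_singleton_iff.1 hc]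
    _ = _ := by group

/-- `|N(P)| = (q - 1) |C(s)|`. -/
theorem card_normalizer (P : Sylow 2 G) :
    Nat.card (Subgroup.normalizer ((P : Subgroup G) : Set G)) =
      (2 ^ n - 1) * ((2 ^ n) ^ 3 * (2 ^ n + 1)) := by
  classical
  obtain ⟨s, hs, hsP⟩ := exists_inv hG P
  obtain ⟨S, A, hd⟩ := hG.cent s hs
  set H := Subgroup.normalizer ((P : Subgroup G) : Set G) with hH
  have hSE := stronglyEmbedded hG P
  obtain ⟨u, huH, hu⟩ := Involutions.StronglyEmbedded.exists_involution_notMem hSE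
  letI : MulAction H {t : G // orderOf t = 2 ∧ t ∈ H} :=
    { smul := fun g t => ⟨(g : G) * t * (g : G)⁻¹, by rw [orderOf_conj, t.2.1],
        mul_mem (mul_mem g.2 t.2.2) (inv_mem g.2)⟩
      one_smul := fun t => Subtype.ext (show (1 : G) * t * (1 : G)⁻¹ = t by group)
      mul_smul := fun g g' t => Subtype.ext (show ((g : G) * g') * t * ((g : G) * g')⁻¹ =
        g * (g' * t * (g' : G)⁻¹) * (g : G)⁻¹ by group) }
  set s₀ : {t : G // orderOf t = 2 ∧ t ∈ H} := ⟨s, hs, Subgroup.le_normalizer hsP⟩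
  have horb : MulAction.orbit H s₀ = Set.univ := Set.eq_univ_of_forall fun ⟨t, ht, htH⟩ => by
    obtain ⟨d, hd', e⟩ := Involutions.StronglyEmbedded.exists_conj_in_inter hSE hu huH hs
      (Subgroup.le_normalizer hsP) ht htH
    exact ⟨⟨d, hd'.1⟩, Subtype.ext e⟩
  have hstab : MulAction.stabilizer H s₀ = (Subgroup.centralizer ({s} : Set G)).subgroupOf H := by
    ext g
    rw [MulAction.mem_stabilizer_iff, Subgroup.mem_subgroupOf,
      Subgroup.mem_centralizer_singleton_iff]
    exact ⟨fun e => mul_inv_eq_iff_eq_mul.1 (congrArg Subtype.val e),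
      fun e => Subtype.ext (mul_inv_eq_iff_eq_mul.2 e)⟩
  have h1 := Nat.card_congr (MulAction.orbitEquivQuotientStabilizer H s₀)
  rw [horb, Nat.card_congr (Equiv.Set.univ _), card_involutions hG P, hstab] at h1
  have h2 := Subgroup.card_eq_card_quotient_mul_card_subgroup
    ((Subgroup.centralizer ({s} : Set G)).subgroupOf H)
  rw [← h1, Nat.card_congr (Subgroup.subgroupOfEquivOfLe (cent_le hG P hs hsP)).toEquiv,
    cent_card hG hd] at h2
  exact h2

/-- The elements of `N(P)` of order dividing `q + 1` lie in `C(s)`. -/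
theorem mem_cent_of_pow (P : Sylow 2 G) {s h : G} (hs : orderOf s = 2) (hsP : s ∈ P)
    (hh : h ∈ Subgroup.normalizer ((P : Subgroup G) : Set G)) (hp : h ^ (2 ^ n + 1) = 1) :
    h ∈ Subgroup.centralizer ({s} : Set G) := by
  set H := Subgroup.normalizer ((P : Subgroup G) : Set G) with hH
  set C := (Subgroup.centralizer ({s} : Set G)).subgroupOf H with hC
  haveI : C.Normal := ⟨fun c hc g => by
    rw [hC, Subgroup.mem_subgroupOf] at hc ⊢
    exact conj_mem_cent hG P hs hsP g.2 hc⟩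
  obtain ⟨S, A, hd⟩ := hG.cent s hs
  have hidx : C.index = 2 ^ n - 1 := by
    have h1 := C.card_mul_index
    rw [Nat.card_congr (Subgroup.subgroupOfEquivOfLe (cent_le hG P hs hsP)).toEquiv,
      cent_card hG hd, card_normalizer hG P, mul_comm (2 ^ n - 1)] at h1
    exact Nat.eq_of_mul_eq_mul_left (by positivity) h1
  have h2 : orderOf (QuotientGroup.mk' C ⟨h, hh⟩) ∣ 2 ^ n + 1 :=
    orderOf_dvd_of_pow_eq_one (by
      rw [← map_pow, show (⟨h, hh⟩ : H) ^ (2 ^ n + 1) = 1 from Subtype.ext hp, map_one])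
  have h3 : orderOf (QuotientGroup.mk' C ⟨h, hh⟩) ∣ 2 ^ n - 1 := by
    rw [← hidx, Subgroup.index_eq_card]; exact orderOf_dvd_natCard _
  exact Subgroup.mem_subgroupOf.1 ((QuotientGroup.eq_one_iff (⟨h, hh⟩ : H)).1 (orderOf_eq_one_iff.1
    (Nat.eq_one_of_dvd_coprimes (coprime_succ_pred hG.two_le) h2 h3)))

/-- An element of odd order of `C(s)` has order dividing `q + 1`. -/
theorem pow_eq_one_of_mem_cent {s c : G} (hs : orderOf s = 2)
    (hc : c ∈ Subgroup.centralizer ({s} : Set G)) (ho : Odd (orderOf c)) :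
    c ^ (2 ^ n + 1) = 1 := by
  obtain ⟨S, A, hd⟩ := hG.cent s hs
  obtain ⟨v, -, hv⟩ := hd.conj_into ⟨c, hc⟩ (by rwa [Subgroup.orderOf_mk])
  have h1 := orderOf_dvd_natCard (⟨_, hv⟩ : A)
  rw [Subgroup.orderOf_mk, orderOf_conj, hd.card_A, Subgroup.orderOf_mk] at h1
  exact orderOf_dvd_iff_pow_eq_one.1 h1

/-- An element of order dividing `q - 1` centralises no involution. -/
theorem eq_one_of_pred {i k : G} (hi : orderOf i = 2) (hk : k * i = i * k)
    (hp : k ^ (2 ^ n - 1) = 1) : k = 1 := by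
  have hd := orderOf_dvd_of_pow_eq_one hp
  have ho : Odd (orderOf k) := (Nat.Even.sub_odd (by have := four_le hG.two_le; omega)
    (Nat.even_pow.2 ⟨even_two, by have := hG.two_le; omega⟩) odd_one).of_dvd_nat hd
  exact orderOf_eq_one_iff.1 (Nat.eq_one_of_dvd_coprimes (coprime_succ_pred hG.two_le)
    (orderOf_dvd_of_pow_eq_one (pow_eq_one_of_mem_cent hG hi
      (Subgroup.mem_centralizer_singleton_iff.2 hk) ho)) hd)

end Cfsg.Agent.Involutions.RankOne.PGU3
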