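import Cfsg.Agent.Lib.Involutions.RankOne.PGU3.TwoPoint

/-!
# Groups with the involution centraliser of `PGU₃(q)`, `q` even: double transitivity

An element `k ≠ 1` of order dividing `q - 1` fixing two points has centraliser of odd order, and fixes no
third point; counting the elements of `H` outside `C(s)` by their other fixed points leaves one orbit.
-/

set_option autoImplicit false
set_option linter.unusedSectionVars false
set_option linter.style.haveILetI false

namespace Cfsg.Agent.Involutions.RankOne.PGU3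

open Subgroup Involutions.Basic Finset

universe u

variable {G : Type u} [Group G] [Finite G] {n : ℕ} (P : Sylow 2 G)

local notation "HH" => Subgroup.normalizer ((P : Subgroup G) : Set G)
local notation "pt0" => ((1 : G) : G ⧸ Subgroup.normalizer ((P : Subgroup G) : Set G))

variable (hG : Hyp G n)
include hG

/-- Every other point is the image of `H` under an involution. -/
theorem exists_swap {b : G ⧸ HH} (hb : b ≠ pt0) : ∃ u : G, orderOf u = 2 ∧ u ∉ HH ∧ u • pt0 = b := by
  have h := Involutions.StronglyEmbedded.card_swap (stronglyEmbedded hG P) pt0 b (Ne.symm hb)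
  rw [card_involutions hG P] at h
  have : 0 < Nat.card {i : G // orderOf i = 2 ∧ i • pt0 = b} := by
    have := four_le hG.two_le; omega
  obtain ⟨⟨u, hu, hub⟩⟩ := (Nat.card_pos_iff.1 this).1
  exact ⟨u, hu, fun e => hb (by rw [← hub]; exact (smul_pt0 P).2 e), hub⟩

/-- A non-identity element of order dividing `q - 1` fixes at most one point besides `H`. -/
theorem fix_unique {k : G} (hk : k ^ (2 ^ n - 1) = 1) (hk1 : k ≠ 1) (hk0 : k • pt0 = pt0)
    {b b' : G ⧸ HH} (hb : b ≠ pt0) (hb' : b' ≠ pt0) (hkb : k • b = b) (hkb' : k • b' = b') :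
    b = b' := by
  classical
  by_contra hne
  haveI := Fintype.ofFinite (G ⧸ HH)
  obtain ⟨u, hu, huH, rfl⟩ := exists_swap P hG hb
  have hkD : k ∈ Dgrp P u := (mem_Dgrp P).2 ⟨hk0, hkb⟩
  have hku : u * k * u⁻¹ = k⁻¹ := (inv_iff P hu huH hG hkD).2 hk
  set C := Subgroup.centralizer ({k} : Set G) with hC
  -- two involutions inverting `k` differ by an element of `C`
  have move : ∀ c, c ≠ pt0 → k • c = c → ∃ g ∈ C, g • u • pt0 = c := by
    intro c hc hkc
    obtain ⟨v, hv, hvH, rfl⟩ := exists_swap P hG hc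
    have hkD' : k ∈ Dgrp P v := (mem_Dgrp P).2 ⟨hk0, hkc⟩
    have hkv : v * k * v⁻¹ = k⁻¹ := (inv_iff P hv hvH hG hkD').2 hk
    refine ⟨v * u, Subgroup.mem_centralizer_singleton_iff.2 ?_, by rw [mul_smul, smul_u P hu]⟩
    refine mul_inv_eq_iff_eq_mul.1 ?_
    calc v * u * k * (v * u)⁻¹ = v * (u * k * u⁻¹) * v⁻¹ := by group
      _ = (v * k * v⁻¹)⁻¹ := by rw [hku]; group
      _ = k := by rw [hkv, inv_inv]
  set O := MulAction.orbit C (u • pt0) with hO
  -- the point `H` is in the orbit
  have h0 : pt0 ∈ O := by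
    have hub' : u • b' ≠ pt0 := fun e => hne (by rw [← inv_smul_smul u b', e, inv_eq hu])
    have hk_ub : k • u • b' = u • b' := by
      rw [smul_smul]
      have : k * u = u * k⁻¹ := by
        have h1 : u * k⁻¹ * u⁻¹ = k := by
          rw [← conj_inv, hku, inv_inv]
        nth_rw 1 [← h1]
        group
      rw [this, mul_smul, inv_smul_eq_iff.2 hkb'.symm]
    obtain ⟨g, hg, hgb⟩ := move _ hub' hk_ub
    obtain ⟨g', hg', hgb'⟩ := move b' hb' hkb'
    -- `u g u` carries `H` to `b'`
    have hgu : u * g * u ∈ C := by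
      rw [hC, Subgroup.mem_centralizer_singleton_iff]
      have hgk : g * k⁻¹ = k⁻¹ * g :=
        ((show Commute g k from Subgroup.mem_centralizer_singleton_iff.1 hg).inv_right).eq
      have h2 : u * k⁻¹ = k * u := by
        have h1 : u * k⁻¹ * u⁻¹ = k := by rw [← conj_inv, hku, inv_inv]
        nth_rw 2 [← h1]; group
      have h3 : u * k = k⁻¹ * u := by rw [← hku]; group
      calc u * g * u * k = u * g * (u * k) := by group
        _ = u * (g * k⁻¹) * u := by rw [h3]; group
        _ = u * (k⁻¹ * g) * u := by rw [hgk]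
        _ = (u * k⁻¹) * g * u := by group
        _ = _ := by rw [h2]; group
    have e1 : (u * g * u) • pt0 = b' := by
      rw [mul_smul, mul_smul, hgb, smul_smul, inv_sq_one hu, one_smul]
    refine ⟨⟨(u * g * u)⁻¹ * g', mul_mem (inv_mem hgu) hg'⟩, ?_⟩
    show ((u * g * u)⁻¹ * g') • u • pt0 = pt0
    rw [mul_smul, hgb', inv_smul_eq_iff, e1]
  -- hence the orbit is the set of fixed points
  have hOeq : O = {c | k • c = c} := by
    ext c
    constructor
    · rintro ⟨⟨g, hg⟩, rfl⟩
      show k • g • u • pt0 = g • u • pt0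
      rw [smul_smul, ← Subgroup.mem_centralizer_singleton_iff.1 hg, mul_smul, hkb]
    · intro hc
      by_cases hc0 : c = pt0
      · exact hc0 ▸ h0
      · obtain ⟨g, hg, e⟩ := move c hc0 hc
        exact ⟨⟨g, hg⟩, e⟩
  -- it has odd size
  have hoddC : Odd (Nat.card C) := by
    by_contra ho
    haveI : Fact (Nat.Prime 2) := ⟨Nat.prime_two⟩
    obtain ⟨⟨w, hw⟩, hw2⟩ :=
      exists_prime_orderOf_dvd_card' (G := C) 2 (even_iff_two_dvd.1 (Nat.not_odd_iff_even.1 ho))
    rw [Subgroup.orderOf_mk] at hw2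
    exact hk1 (eq_one_of_pred hG hw2 (Subgroup.mem_centralizer_singleton_iff.1 hw).symm hk)
  have h1 : Odd (Nat.card O) := hoddC.of_dvd_nat (by
    rw [Nat.card_congr (MulAction.orbitEquivQuotientStabilizer C (u • pt0))]
    exact Subgroup.card_quotient_dvd_card _)
  -- and `u` has no fixed point in it
  have h2 : Even (Nat.card O) := by
    have huk : ∀ c : G ⧸ HH, k • c = c → k • u • c = u • c := fun c hc => by
      have : k * u = u * k⁻¹ := by
        have h1 : u * k⁻¹ * u⁻¹ = k := by rw [← conj_inv, hku, inv_inv]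
        nth_rw 1 [← h1]; group
      rw [smul_smul, this, mul_smul, inv_smul_eq_iff.2 hc.symm]
    have hnofix : ∀ c : G ⧸ HH, k • c = c → u • c ≠ c := by
      intro c hc huc
      refine hk1 ?_
      have hsw : (k * u * k⁻¹) • c = c := by
        rw [mul_smul, mul_smul, inv_smul_eq_iff.2 hc.symm, huc, hc]
      have ho2 : orderOf (k * u * k⁻¹) = 2 := by rw [orderOf_conj, hu]
      obtain ⟨g, rfl⟩ := QuotientGroup.mk_surjective c
      -- the two involutions fixing `g H` commute
      have hmem : ∀ i : G, i • (g : G ⧸ HH) = g → g⁻¹ * i * g ∈ HH := fun i hi => by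
        rw [← smul_pt0 P, mul_smul, mul_smul]
        have : g • pt0 = (g : G ⧸ HH) := by
          show ((g * 1 : G) : G ⧸ HH) = _
          rw [mul_one]
        rw [this, hi, inv_smul_eq_iff, this]
      have o1 : orderOf (g⁻¹ * u * g) = 2 := by
        have := orderOf_conj g⁻¹ u; rw [inv_inv] at this; rw [this, hu]
      have o2 : orderOf (g⁻¹ * (k * u * k⁻¹) * g) = 2 := by
        have := orderOf_conj g⁻¹ (k * u * k⁻¹); rw [inv_inv] at this; rw [this, ho2]
      have m1 := inv_mem_sylow hG P o1 (hmem u huc)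
      have m2 := inv_mem_sylow hG P o2 (hmem _ hsw)
      obtain ⟨j, hj⟩ := P.2 ⟨(g⁻¹ * (k * u * k⁻¹) * g) * (g⁻¹ * u * g), mul_mem m2 m1⟩
      have hkk : g⁻¹ * (k * u * k⁻¹) * g * (g⁻¹ * u * g) = g⁻¹ * (k * k) * g := by
        have : u * k⁻¹ * u⁻¹ = k := by rw [← conj_inv, hku, inv_inv]
        rw [inv_eq hu] at this
        calc g⁻¹ * (k * u * k⁻¹) * g * (g⁻¹ * u * g) = g⁻¹ * (k * (u * k⁻¹ * u)) * g := by group
          _ = _ := by rw [this]
      have hj' : (g⁻¹ * (k * u * k⁻¹) * g * (g⁻¹ * u * g)) ^ (2 ^ j) = 1 := congrArg Subtype.val hj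
      rw [hkk] at hj'
      have hj2 : k ^ (2 * 2 ^ j) = 1 := by
        rw [show g⁻¹ * (k * k) * g = g⁻¹ * (k * k) * g⁻¹⁻¹ by rw [inv_inv], conj_pow,
          conj_eq_one_iff] at hj'
        rw [pow_mul, sq]; exact hj'
      have hkodd := odd_order P hu huH hG hkD
      exact orderOf_eq_one_iff.1 (Nat.eq_one_of_dvd_coprimes
        ((Nat.coprime_two_left.2 hkodd).pow_left (j + 1))
        (by rw [pow_succ']; exact orderOf_dvd_of_pow_eq_one hj2) dvd_rfl)
    let σ : Equiv.Perm ↥O :=
      { toFun := fun c => ⟨u • c.1, hOeq.ge (huk _ (hOeq.le c.2))⟩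
        invFun := fun c => ⟨u • c.1, hOeq.ge (huk _ (hOeq.le c.2))⟩
        left_inv := fun c => Subtype.ext (by show u • u • c.1 = c.1; rw [smul_smul, inv_sq_one hu, one_smul])
        right_inv := fun c => Subtype.ext (by show u • u • c.1 = c.1; rw [smul_smul, inv_sq_one hu, one_smul]) }
    have hσ : σ ^ (2 ^ 1) = 1 := by
      ext c
      show u • u • c.1 = c.1
      rw [smul_smul, inv_sq_one hu, one_smul]
    haveI := Fintype.ofFinite ↥O
    haveI : Fact (Nat.Prime 2) := ⟨Nat.prime_two⟩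
    have h3 : (Finset.univ.filter fun c => σ c = c) = ∅ := by
      rw [Finset.filter_eq_empty_iff]
      exact fun c _ e => hnofix c.1 (hOeq.le c.2) (congrArg Subtype.val e)
    by_contra ho
    rw [Nat.not_even_iff_odd, Nat.card_eq_fintype_card] at ho
    obtain ⟨c, hc⟩ := Equiv.Perm.exists_fixed_point_of_prime (p := 2) (n := 1)
      (fun hd => Nat.not_even_iff_odd.2 ho (even_iff_two_dvd.2 hd)) hσ
    exact hnofix c.1 (hOeq.le c.2) (congrArg Subtype.val hc)
  exact Nat.not_even_iff_odd.2 h1 h2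

/-- `H` is transitive on the other points. -/
theorem transitive {b b' : G ⧸ HH} (hb : b ≠ pt0) (hb' : b' ≠ pt0) : ∃ h ∈ HH, h • b = b' := by
  classical
  haveI := Fintype.ofFinite G
  haveI := Fintype.ofFinite (G ⧸ HH)
  obtain ⟨s, hs, hsP⟩ := exists_inv hG P
  obtain ⟨S, A, hd⟩ := hG.cent s hs
  set CS := Subgroup.centralizer ({s} : Set G) with hCS
  by_contra hno
  push Not at hno
  set T : Finset G := {g | g ∈ HH ∧ g ∉ CS} with hT
  -- the elements of `T` fixing `c`
  let f : G ⧸ HH → Finset G := fun c => T.filter fun g => g • c = c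
  have hpd : ∀ c : G ⧸ HH, c ≠ pt0 → ∀ g ∈ f c, g ^ (2 ^ n + 1) ≠ 1 ∧
      (g ^ (2 ^ n + 1)) ^ (2 ^ n - 1) = 1 := by
    intro c hc g hg
    obtain ⟨hgT, hgc⟩ := Finset.mem_filter.1 hg
    obtain ⟨-, hgH, hgC⟩ := Finset.mem_filter.1 hgT
    refine ⟨fun e => hgC (mem_cent_of_pow hG P hs hsP hgH e), ?_⟩
    obtain ⟨v, hv, hvH, rfl⟩ := exists_swap P hG hc
    have hgD : g ∈ Dgrp P v := (mem_Dgrp P).2 ⟨(smul_pt0 P).2 hgH, hgc⟩
    rw [← pow_mul]
    refine orderOf_dvd_iff_pow_eq_one.1 ?_
    have h1 := orderOf_dvd_natCard (⟨g, hgD⟩ : Dgrp P v)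
    rw [Subgroup.orderOf_mk, card_D P hv hvH hG hs hsP, mul_comm] at h1
    exact h1.trans (Nat.mul_dvd_mul_right (E_cyclic P hv hvH hG hs).2 _)
  set O : Finset (G ⧸ HH) := {c | ∃ h ∈ HH, h • b = c} with hO
  have hOne : ∀ c ∈ insert b' O, c ≠ pt0 := by
    intro c hc
    rcases Finset.mem_insert.1 hc with rfl | hc
    · exact hb'
    · obtain ⟨-, h, hh, rfl⟩ := Finset.mem_filter.1 hc
      exact fun e => hb (smul_left_cancel h (e.trans ((smul_pt0 P).2 hh).symm))
  have hdis : Set.PairwiseDisjoint (↑(insert b' O) : Set (G ⧸ HH)) f := by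
    intro c hc c' hc' hcc
    rw [Function.onFun, Finset.disjoint_left]
    intro g hg hg'
    obtain ⟨h1, h2⟩ := hpd c (hOne c hc) g hg
    have hfix : ∀ d : G ⧸ HH, g • d = d → g ^ (2 ^ n + 1) • d = d := fun d hd' => by
      generalize 2 ^ n + 1 = i
      induction i with
      | zero => rw [pow_zero, one_smul]
      | succ i ih => rw [pow_succ, mul_smul, hd', ih]
    exact hcc (fix_unique P hG h2 h1
      (hfix _ ((smul_pt0 P).2 (Finset.mem_filter.1 (Finset.mem_filter.1 hg).1).2.1))
      (hOne c hc) (hOne c' hc') (hfix _ (Finset.mem_filter.1 hg).2)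
      (hfix _ (Finset.mem_filter.1 hg').2))
  have hsum := Finset.card_biUnion hdis
  have hle : #((insert b' O).biUnion f) ≤ #T := Finset.card_le_card (Finset.biUnion_subset.2
    fun c _ => Finset.filter_subset _ _)
  have hcardf : ∀ c : G ⧸ HH, c ≠ pt0 → ∀ v, orderOf v = 2 → v ∉ HH → v • pt0 = c →
      #(f c) + Nat.card ↥(Dgrp P v ⊓ CS) = Nat.card (Dgrp P v) := by
    intro c hc v hv hvH hvc
    have e1 : (Dgrp P v : Set G).toFinset = f c ∪ (↑(Dgrp P v ⊓ CS) : Set G).toFinset := by
      ext g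
      simp only [f, hT, Set.mem_toFinset, SetLike.mem_coe, Finset.mem_union, Finset.mem_filter,
        Finset.mem_univ, true_and, Subgroup.mem_inf, mem_Dgrp, smul_pt0, hvc]
      tauto
    have e2 : Disjoint (f c) (↑(Dgrp P v ⊓ CS) : Set G).toFinset := by
      rw [Finset.disjoint_left]
      intro g hg hg'
      simp only [f, hT, Finset.mem_filter] at hg
      exact hg.1.2.2 (Set.mem_toFinset.1 hg').2
    have e3 := congrArg Finset.card e1
    rw [Finset.card_union_of_disjoint e2] at e3
    simp only [Set.toFinset_card, ← Nat.card_eq_fintype_card] at e3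
    exact e3.symm
  have hTcard : #T + Nat.card CS = Nat.card HH := by
    have e1 : (HH : Set G).toFinset = T ∪ (CS : Set G).toFinset := by
      ext g
      simp only [hT, Set.mem_toFinset, SetLike.mem_coe, Finset.mem_union, Finset.mem_filter,
        Finset.mem_univ, true_and]
      have : g ∈ CS → g ∈ HH := fun hg => cent_le hG P hs hsP hg
      by_cases hg : g ∈ CS
      · exact ⟨fun _ => Or.inr hg, fun _ => this hg⟩
      · exact ⟨fun h => Or.inl ⟨h, hg⟩, fun h => h.elim And.left (fun h' => absurd h' hg)⟩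
    have e2 : Disjoint T (CS : Set G).toFinset := by
      rw [Finset.disjoint_left]
      intro g hg hg'
      simp only [hT, Finset.mem_filter] at hg
      exact hg.2.2 (Set.mem_toFinset.1 hg')
    have e3 := congrArg Finset.card e1
    rw [Finset.card_union_of_disjoint e2] at e3
    simp only [Set.toFinset_card, ← Nat.card_eq_fintype_card] at e3
    exact e3.symm
  have hq := four_le hG.two_le
  obtain ⟨m, hm⟩ : ∃ m, 2 ^ n - 1 = m + 1 := ⟨2 ^ n - 2, by omega⟩
  have hterm : ∀ c ∈ O, #T ≤ #O * #(f c) := by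
    intro c hc
    obtain ⟨-, h, hh, rfl⟩ := Finset.mem_filter.1 hc
    obtain ⟨v, hv, hvH, hvc⟩ := exists_swap P hG (hOne _ (Finset.mem_insert_of_mem hc))
    have h1 := hcardf _ (hOne _ (Finset.mem_insert_of_mem hc)) v hv hvH hvc
    rw [card_D P hv hvH hG hs hsP, ← hCS, hm] at h1
    have horb : #O * Nat.card (Dgrp P v) = Nat.card HH := by
      have e1 : MulAction.orbit HH (h • b) = ↑O := by
        ext d
        simp only [hO, Finset.coe_filter, Finset.mem_univ, true_and, Set.mem_ofPred_eq,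
          MulAction.mem_orbit_iff]
        constructor
        · rintro ⟨⟨g, hg⟩, rfl⟩
          exact ⟨g * h, mul_mem hg hh, mul_smul _ _ _⟩
        · rintro ⟨g, hg, rfl⟩
          refine ⟨⟨g * h⁻¹, mul_mem hg (inv_mem hh)⟩, ?_⟩
          show (g * h⁻¹) • h • b = g • b
          rw [mul_smul, inv_smul_smul]
      have e2 : MulAction.stabilizer HH (h • b) = (Dgrp P v).subgroupOf HH := by
        ext g
        rw [MulAction.mem_stabilizer_iff, Subgroup.mem_subgroupOf, Dgrp, Subgroup.mem_inf,
          MulAction.mem_stabilizer_iff, hvc]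
        exact ⟨fun e => ⟨g.2, e⟩, fun e => e.2⟩
      have e3 := Nat.card_congr (MulAction.orbitEquivQuotientStabilizer HH (h • b))
      rw [e1, Nat.card_coe_set_eq, Set.ncard_coe_finset, e2] at e3
      have e4 := Subgroup.card_eq_card_quotient_mul_card_subgroup ((Dgrp P v).subgroupOf HH)
      rw [← e3, Nat.card_congr (Subgroup.subgroupOfEquivOfLe
        (show Dgrp P v ≤ HH from inf_le_left)).toEquiv] at e4
      exact e4.symm
    rw [card_D P hv hvH hG hs hsP, ← hCS, hm] at horb
    rw [card_normalizer hG P, hm, show (2 ^ n) ^ 3 * (2 ^ n + 1) = Nat.card CS from (cent_card hG hd).symm]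
      at hTcard horb
    have hT' : #T = m * Nat.card CS := by
      rw [add_one_mul] at hTcard; omega
    have hf' : #(f (h • b)) = m * Nat.card ↥(Dgrp P v ⊓ CS) := by
      rw [add_one_mul] at h1; omega
    have hO' : #O * Nat.card ↥(Dgrp P v ⊓ CS) = Nat.card CS := by
      refine Nat.eq_of_mul_eq_mul_left (Nat.succ_pos m) ?_
      rw [Nat.succ_eq_add_one, ← horb]; ring
    rw [hT', hf', ← hO']
    exact le_of_eq (by ring)
  have hbO : b ∈ O := Finset.mem_filter.2 ⟨Finset.mem_univ _, 1, one_mem _, one_smul _ _⟩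
  have hb'O : b' ∉ O := fun hc => by
    obtain ⟨-, h, hh, e⟩ := Finset.mem_filter.1 hc
    exact hno h hh e
  have hpos : 0 < #(f b') := by
    obtain ⟨v, hv, hvH, hvc⟩ := exists_swap P hG hb'
    have h1 := hcardf b' hb' v hv hvH hvc
    rw [card_D P hv hvH hG hs hsP, ← hCS, hm, add_one_mul] at h1
    have h2 : 0 < Nat.card ↥(Dgrp P v ⊓ CS) := Nat.card_pos
    have h3 : 0 < m := by omega
    have h4 := Nat.mul_pos h3 h2
    omega
  rw [Finset.sum_insert hb'O] at hsum
  have hO0 : 0 < #O := Finset.card_pos.2 ⟨b, hbO⟩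
  have hsumO : #O * #T ≤ #O * ∑ c ∈ O, #(f c) := by
    rw [Finset.mul_sum]
    calc #O * #T = ∑ _c ∈ O, #T := by rw [Finset.sum_const, smul_eq_mul]
      _ ≤ _ := Finset.sum_le_sum hterm
  have := Nat.le_of_mul_le_mul_left hsumO hO0
  omega

end Cfsg.Agent.Involutions.RankOne.PGU3
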