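import Cfsg.Agent.Lib.Involutions.RankOne.PGU3.Setup
import Cfsg.Agent.Lib.Involutions.RankOne.InvertedSet

/-!
# Groups with the involution centraliser of `PGU₃(q)`, `q` even: two-point stabilisers

For an involution `u ∉ H` the stabiliser `D` of the two points interchanged by `u` is `E × I` with
`E = D ∩ C(s) = C_D(u)` and `I` the inverted elements, of order `q - 1`; a non-identity element of `I`
fixes only these two points, so `H` is transitive on the other points.
-/

set_option autoImplicit false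
set_option linter.unusedSectionVars false
set_option linter.style.haveILetI false

namespace Cfsg.Agent.Involutions.RankOne.PGU3

open Subgroup Involutions.Basic

universe u

variable {G : Type u} [Group G] [Finite G] {n : ℕ}

/-- The stabiliser of `H` and of its image under `u`, `H = N(P)`. -/
def Dgrp (P : Sylow 2 G) (u : G) : Subgroup G :=
  Subgroup.normalizer ((P : Subgroup G) : Set G) ⊓ MulAction.stabilizer G
    (u • ((1 : G) : G ⧸ Subgroup.normalizer ((P : Subgroup G) : Set G)))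

variable (P : Sylow 2 G)

local notation "HH" => Subgroup.normalizer ((P : Subgroup G) : Set G)
local notation "pt0" => ((1 : G) : G ⧸ Subgroup.normalizer ((P : Subgroup G) : Set G))

theorem smul_pt0 {g : G} : g • pt0 = pt0 ↔ g ∈ HH := by
  show ((g * 1 : G) : G ⧸ HH) = _ ↔ _
  rw [mul_one, QuotientGroup.eq, mul_one, inv_mem_iff]

theorem mem_Dgrp {u d : G} : d ∈ Dgrp P u ↔ d • pt0 = pt0 ∧ d • u • pt0 = u • pt0 := by
  rw [Dgrp, Subgroup.mem_inf, MulAction.mem_stabilizer_iff, smul_pt0]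

theorem Dgrp_eq {u : G} : Dgrp P u = HH ⊓ Subgroup.map (MulAut.conj u).toMonoidHom HH := by
  ext d
  rw [mem_Dgrp, smul_pt0, Subgroup.mem_inf, Subgroup.mem_map_equiv, MulAut.conj_symm_apply]
  refine and_congr_right fun _ => ?_
  rw [← smul_pt0 P, mul_smul, mul_smul, inv_smul_eq_iff]

variable {u : G} (hu : orderOf u = 2) (huH : u ∉ Subgroup.normalizer ((P : Subgroup G) : Set G))
include hu

theorem smul_u : u • u • pt0 = pt0 := by rw [smul_smul, inv_sq_one hu, one_smul]

theorem conj_u_mem {d : G} (hd : d ∈ Dgrp P u) : u * d * u⁻¹ ∈ Dgrp P u := by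
  rw [mem_Dgrp] at hd ⊢
  rw [inv_eq hu, mul_smul, mul_smul, mul_smul, mul_smul]
  exact ⟨by rw [hd.2, smul_u P hu], by rw [smul_u P hu, hd.1]⟩

variable (hG : Hyp G n)
include hG huH

theorem odd_D : Odd (Nat.card (Dgrp P u)) := by
  rw [Dgrp_eq]
  exact (stronglyEmbedded hG P).2.2 u huH

theorem odd_order {d : G} (hd : d ∈ Dgrp P u) : Odd (orderOf d) :=
  (odd_D P hu huH hG).of_dvd_nat (by
    rw [← Subgroup.orderOf_mk d hd]; exact orderOf_dvd_natCard _)

/-- The two tests for membership in `C(s)` agree. -/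
theorem mem_cent_iff {s d : G} (hs : orderOf s = 2) (hsP : s ∈ P) (hd : d ∈ Dgrp P u) :
    d ∈ Subgroup.centralizer ({s} : Set G) ↔ d ^ (2 ^ n + 1) = 1 :=
  ⟨fun h => pow_eq_one_of_mem_cent hG hs h (odd_order P hu huH hG hd),
    fun h => mem_cent_of_pow hG P hs hsP hd.1 h⟩

/-- `|D| = (q - 1) |D ∩ C(s)|`. -/
theorem card_D {s : G} (hs : orderOf s = 2) (hsP : s ∈ P) :
    Nat.card (Dgrp P u) =
      (2 ^ n - 1) * Nat.card ↥(Dgrp P u ⊓ Subgroup.centralizer ({s} : Set G)) := by
  classical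
  have hSE := stronglyEmbedded hG P
  letI : MulAction (Dgrp P u) {t : G // orderOf t = 2 ∧ t ∈ HH} :=
    { smul := fun g t => ⟨(g : G) * t * (g : G)⁻¹, by rw [orderOf_conj, t.2.1],
        mul_mem (mul_mem g.2.1 t.2.2) (inv_mem g.2.1)⟩
      one_smul := fun t => Subtype.ext (show (1 : G) * t * (1 : G)⁻¹ = t by group)
      mul_smul := fun g g' t => Subtype.ext (show ((g : G) * g') * t * ((g : G) * g')⁻¹ =
        g * (g' * t * (g' : G)⁻¹) * (g : G)⁻¹ by group) }
  set s₀ : {t : G // orderOf t = 2 ∧ t ∈ HH} := ⟨s, hs, Subgroup.le_normalizer hsP⟩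
  have horb : MulAction.orbit (Dgrp P u) s₀ = Set.univ := Set.eq_univ_of_forall fun ⟨t, ht, htH⟩ => by
    obtain ⟨d, hd', e⟩ := Involutions.StronglyEmbedded.exists_conj_in_inter hSE hu huH hs
      (Subgroup.le_normalizer hsP) ht htH
    rw [← Dgrp_eq] at hd'
    exact ⟨⟨d, hd'⟩, Subtype.ext e⟩
  have hstab : MulAction.stabilizer (Dgrp P u) s₀ =
      (Subgroup.centralizer ({s} : Set G)).subgroupOf (Dgrp P u) := by
    ext g
    rw [MulAction.mem_stabilizer_iff, Subgroup.mem_subgroupOf,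
      Subgroup.mem_centralizer_singleton_iff]
    exact ⟨fun e => mul_inv_eq_iff_eq_mul.1 (congrArg Subtype.val e),
      fun e => Subtype.ext (mul_inv_eq_iff_eq_mul.2 e)⟩
  have h1 := Nat.card_congr (MulAction.orbitEquivQuotientStabilizer (Dgrp P u) s₀)
  rw [horb, Nat.card_congr (Equiv.Set.univ _), card_involutions hG P, hstab] at h1
  have h2 := Subgroup.card_eq_card_quotient_mul_card_subgroup
    ((Subgroup.centralizer ({s} : Set G)).subgroupOf (Dgrp P u))
  rw [← h1, ← Subgroup.inf_subgroupOf_left,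
    Nat.card_congr (Subgroup.subgroupOfEquivOfLe inf_le_left).toEquiv] at h2
  exact h2

/-- `D ∩ C(s)` is cyclic of order dividing `q + 1`. -/
theorem E_cyclic {s : G} (hs : orderOf s = 2) :
    IsCyclic ↥(Dgrp P u ⊓ Subgroup.centralizer ({s} : Set G)) ∧
      Nat.card ↥(Dgrp P u ⊓ Subgroup.centralizer ({s} : Set G)) ∣ 2 ^ n + 1 := by
  obtain ⟨S, A, hd⟩ := hG.cent s hs
  haveI := hd.normal
  haveI := hd.cyclic_A
  haveI hcy : IsCyclic (Subgroup.centralizer ({s} : Set G) ⧸ S) :=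
    isCyclic_of_surjective ((QuotientGroup.mk' S).comp A.subtype) fun c => by
      obtain ⟨c, rfl⟩ := QuotientGroup.mk'_surjective S c
      obtain ⟨v, hv, b, hb, rfl⟩ := hd.exists_mul c
      refine ⟨⟨b, hb⟩, ?_⟩
      rw [map_mul, show QuotientGroup.mk' S v = 1 from (QuotientGroup.eq_one_iff v).2 hv, one_mul]
      rfl
  set f := (QuotientGroup.mk' S).comp
    (Subgroup.inclusion (inf_le_right : Dgrp P u ⊓ Subgroup.centralizer ({s} : Set G) ≤ _))
  have hinj : Function.Injective f := (injective_iff_map_eq_one f).2 fun x hx => by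
    have h1 : Subgroup.inclusion inf_le_right x ∈ S := (QuotientGroup.eq_one_iff _).1 hx
    have h2 := orderOf_dvd_natCard (⟨_, h1⟩ : S)
    rw [Subgroup.orderOf_mk, hd.card_S, ← pow_mul,
      orderOf_injective _ (Subgroup.inclusion_injective _), ← Subgroup.orderOf_coe] at h2
    refine Subtype.ext (orderOf_eq_one_iff.1 ?_)
    exact Nat.eq_one_of_dvd_coprimes
      ((Nat.coprime_two_left.2 (odd_order P hu huH hG x.2.1)).pow_left (n * 3)) h2 dvd_rfl
  exact ⟨isCyclic_of_injective f hinj, by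
    rw [← cent_index hG hd, Subgroup.index_eq_card]; exact Subgroup.card_dvd_of_injective f hinj⟩

/-- There are `q - 1` elements of `D` inverted by `u`. -/
theorem card_inv : Nat.card (Cfsg.invertedBy (Dgrp P u) u) = 2 ^ n - 1 := by
  have hne : pt0 ≠ u • pt0 := fun e => huH ((smul_pt0 P).1 e.symm)
  rw [← card_involutions hG P,
    ← Involutions.StronglyEmbedded.card_swap (stronglyEmbedded hG P) pt0 (u • pt0) hne]
  refine Nat.card_eq_of_bijective (fun k => ⟨u * k.1, ?_⟩) ⟨fun k k' e => ?_, fun i => ?_⟩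
  · obtain ⟨k, hk, hki⟩ := k
    rw [inv_eq hu] at hki
    refine ⟨orderOf_two_iff.2 ⟨?_, fun e => huH ?_⟩, ?_⟩
    · calc u * k * (u * k) = (u * k * u) * k := by group
        _ = 1 := by rw [hki, inv_mul_cancel]
    · have : u = k⁻¹ := eq_inv_of_mul_eq_one_left e
      rw [this]; exact inv_mem hk.1
    · rw [mul_smul, ((mem_Dgrp P).1 hk).1]
  · dsimp only at e
    exact Subtype.ext (mul_left_cancel (congrArg Subtype.val e :))
  · obtain ⟨i, hi, him⟩ := i
    have hi' : i • u • pt0 = pt0 := by rw [← him, smul_smul, inv_sq_one hi, one_smul]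
    refine ⟨⟨u * i, (mem_Dgrp P).2 ⟨?_, ?_⟩, ?_⟩, Subtype.ext ?_⟩
    · rw [mul_smul, him, smul_u P hu]
    · rw [mul_smul, hi']
    · rw [_root_.mul_inv_rev, inv_eq hu, inv_eq hi, ← mul_assoc, inv_sq_one hu, one_mul]
    · show u * (u * i) = i
      rw [← mul_assoc, inv_sq_one hu, one_mul]

/-- `C_D(u) = D ∩ C(s)`. -/
theorem comm_iff {s d : G} (hs : orderOf s = 2) (hsP : s ∈ P) (hd : d ∈ Dgrp P u) :
    u * d = d * u ↔ d ∈ Subgroup.centralizer ({s} : Set G) := by
  classical
  have hle : Dgrp P u ⊓ Subgroup.centralizer ({u} : Set G) ≤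
      Dgrp P u ⊓ Subgroup.centralizer ({s} : Set G) := fun x hx =>
    ⟨hx.1, mem_cent_of_pow hG P hs hsP hx.1.1
      (pow_eq_one_of_mem_cent hG hu hx.2 (odd_order P hu huH hG hx.1))⟩
  have heq : Dgrp P u ⊓ Subgroup.centralizer ({u} : Set G) =
      Dgrp P u ⊓ Subgroup.centralizer ({s} : Set G) := by
    refine Subgroup.eq_of_le_of_card_ge hle ?_
    have h1 : Nat.card (Dgrp P u) ≤ Nat.card ↥(Dgrp P u ⊓ Subgroup.centralizer ({u} : Set G)) *
        Nat.card (Cfsg.invertedBy (Dgrp P u) u) := by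
      rw [← Nat.card_prod]
      refine Nat.card_le_card_of_surjective (fun p :
        ↥(Dgrp P u ⊓ Subgroup.centralizer ({u} : Set G)) × Cfsg.invertedBy (Dgrp P u) u =>
          (⟨(p.1 : G) * (p.2 : G), mul_mem p.1.2.1 p.2.2.1⟩ : Dgrp P u)) ?_
      rintro ⟨x, hx⟩
      obtain ⟨c, k, hc, hct, hk, rfl⟩ := InvertedSet.exists_decomp (odd_D P hu huH hG)
        (inv_sq_one hu) (fun y hy => conj_u_mem P hu hy) hx
      exact ⟨(⟨c, hc, Subgroup.mem_centralizer_singleton_iff.2 (mul_inv_eq_iff_eq_mul.1 hct).symm⟩,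
        ⟨k, hk⟩), rfl⟩
    rw [card_D P hu huH hG hs hsP, card_inv P hu huH hG, mul_comm] at h1
    exact Nat.le_of_mul_le_mul_right h1 (by have := four_le hG.two_le; omega)
  constructor
  · intro e
    exact (hle ⟨hd, Subgroup.mem_centralizer_singleton_iff.2 e.symm⟩).2
  · intro e
    exact (Subgroup.mem_centralizer_singleton_iff.1
      (heq.symm.le (show d ∈ _ ⊓ _ from ⟨hd, e⟩)).2).symm

/-- The inverted elements have order dividing `q - 1`, and conversely. -/
theorem inv_iff {d : G} (hd : d ∈ Dgrp P u) :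
    u * d * u⁻¹ = d⁻¹ ↔ d ^ (2 ^ n - 1) = 1 := by
  obtain ⟨s, hs, hsP⟩ := exists_inv hG P
  have hq := coprime_succ_pred hG.two_le
  obtain ⟨S, A, hA⟩ := hG.cent s hs
  have hpow : ∀ k ∈ Dgrp P u, k ^ (2 ^ n - 1) ∈ Subgroup.centralizer ({s} : Set G) := fun k hk => by
    refine mem_cent_of_pow hG P hs hsP (pow_mem hk.1 _) ?_
    rw [← pow_mul]
    refine orderOf_dvd_iff_pow_eq_one.1 ?_
    have h1 := orderOf_dvd_natCard (⟨k, hk⟩ : Dgrp P u)
    rw [Subgroup.orderOf_mk, card_D P hu huH hG hs hsP] at h1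
    exact h1.trans (Nat.mul_dvd_mul_left _ (E_cyclic P hu huH hG hs).2)
  have key : ∀ k ∈ Dgrp P u, u * k * u⁻¹ = k⁻¹ → k ^ (2 ^ n - 1) = 1 := fun k hk e => by
    have h1 := (comm_iff P hu huH hG hs hsP (pow_mem hk _)).2 (hpow k hk)
    have h2 : u * k ^ (2 ^ n - 1) * u⁻¹ = (k ^ (2 ^ n - 1))⁻¹ := by
      rw [← conj_pow, e, inv_pow]
    refine InvertedSet.eq_one_of_mul_self (odd_D P hu huH hG) (pow_mem hk _) ?_
    rw [h1, mul_inv_cancel_right] at h2
    nth_rw 1 [h2]
    exact inv_mul_cancel _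
  refine ⟨key d hd, fun e => ?_⟩
  obtain ⟨c, k, hc, hct, hk, rfl⟩ := InvertedSet.exists_decomp (odd_D P hu huH hG)
    (inv_sq_one hu) (fun y hy => conj_u_mem P hu hy) hd
  have hck : c * k = k * c := by
    -- `k c k⁻¹` is again fixed by `u`
    have hcE := (comm_iff P hu huH hG hs hsP hc).1 (mul_inv_eq_iff_eq_mul.1 hct)
    have h1 : k * c * k⁻¹ ∈ Subgroup.centralizer ({s} : Set G) := conj_mem_cent hG P hs hsP hk.1.1 hcE
    have h2 := (comm_iff P hu huH hG hs hsP (mul_mem (mul_mem hk.1 hc) (inv_mem hk.1))).2 h1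
    have h3 : k⁻¹ * c * k = k * c * k⁻¹ := by
      calc k⁻¹ * c * k = (u * k * u⁻¹) * (u * c * u⁻¹) * (u * k * u⁻¹)⁻¹ := by
            rw [hk.2, hct, inv_inv]
        _ = u * (k * c * k⁻¹) * u⁻¹ := by group
        _ = _ := by rw [h2, mul_inv_cancel_right]
    have h4 : Commute c (k * k) := by
      show c * (k * k) = k * k * c
      calc c * (k * k) = k * (k⁻¹ * c * k) * k := by group
        _ = k * (k * c * k⁻¹) * k := by rw [h3]
        _ = _ := by group
    obtain ⟨m, hm⟩ := odd_order P hu huH hG hk.1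
    have h5 : (k * k) ^ (m + 1) = k := by
      rw [← sq, ← pow_mul, show 2 * (m + 1) = orderOf k + 1 by omega, pow_succ, pow_orderOf_eq_one,
        one_mul]
    exact h5 ▸ (h4.pow_right (m + 1)).eq
  rw [Commute.mul_pow hck, key k hk.1 hk.2, mul_one] at e
  have hc1 : c = 1 := by
    refine orderOf_eq_one_iff.1 (Nat.eq_one_of_dvd_coprimes hq
      (orderOf_dvd_of_pow_eq_one ((mem_cent_iff P hu huH hG hs hsP hc).1
        ((comm_iff P hu huH hG hs hsP hc).1 (mul_inv_eq_iff_eq_mul.1 hct))))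
      (orderOf_dvd_of_pow_eq_one e))
  rw [hc1, one_mul]
  exact hk.2

/-- `D` is abelian. -/
theorem D_comm {x y : G} (hx : x ∈ Dgrp P u) (hy : y ∈ Dgrp P u) : x * y = y * x := by
  obtain ⟨s, hs, hsP⟩ := exists_inv hG P
  obtain ⟨hcyc, hdvd⟩ := E_cyclic P hu huH hG hs
  -- the fixed part is central
  have hcen : ∀ c ∈ Dgrp P u, u * c = c * u → ∀ d ∈ Dgrp P u, c * d = d * c := by
    intro c hc hcu d hd
    have hcE := (comm_iff P hu huH hG hs hsP hc).1 hcu
    obtain ⟨v, k, hv, hvt, hk, rfl⟩ := InvertedSet.exists_decomp (odd_D P hu huH hG)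
      (inv_sq_one hu) (fun y hy => conj_u_mem P hu hy) hd
    have hvE := (comm_iff P hu huH hG hs hsP hv).1 (mul_inv_eq_iff_eq_mul.1 hvt)
    letI := (IsCyclic.commGroup : CommGroup ↥(Dgrp P u ⊓ Subgroup.centralizer ({s} : Set G)))
    have h1 : c * v = v * c := congrArg Subtype.val
      (mul_comm (⟨c, hc, hcE⟩ : ↥(Dgrp P u ⊓ Subgroup.centralizer ({s} : Set G))) ⟨v, hv, hvE⟩)
    have h2 : c * k = k * c := by
      have hkE := conj_mem_cent hG P hs hsP hk.1.1 hcE
      have h3 := (comm_iff P hu huH hG hs hsP (mul_mem (mul_mem hk.1 hc) (inv_mem hk.1))).2 hkE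
      have h4 : Commute c (k * k) := by
        show c * (k * k) = k * k * c
        calc c * (k * k) = k * ((u * k * u⁻¹) * (u * c * u⁻¹) * (u * k * u⁻¹)⁻¹) * k := by
              rw [hk.2, hcu, mul_inv_cancel_right, inv_inv]; group
          _ = k * (u * (k * c * k⁻¹) * u⁻¹) * k := by group
          _ = k * (k * c * k⁻¹) * k := by rw [h3, mul_inv_cancel_right]
          _ = _ := by group
      obtain ⟨m, hm⟩ := odd_order P hu huH hG hk.1
      have h5 : (k * k) ^ (m + 1) = k := by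
        rw [← sq, ← pow_mul, show 2 * (m + 1) = orderOf k + 1 by omega, pow_succ, pow_orderOf_eq_one,
          one_mul]
      exact h5 ▸ (h4.pow_right (m + 1)).eq
    calc c * (v * k) = (c * v) * k := by group
      _ = v * (c * k) := by rw [h1]; group
      _ = _ := by rw [h2]; group
  -- two inverted elements commute
  have hinv : ∀ k ∈ Cfsg.invertedBy (Dgrp P u) u, ∀ k' ∈ Cfsg.invertedBy (Dgrp P u) u,
      k * k' = k' * k := by
    intro k hk k' hk'
    set w := k * k' * k⁻¹ * k'⁻¹ with hw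
    have hwD : w ∈ Dgrp P u := mul_mem (mul_mem (mul_mem hk.1 hk'.1) (inv_mem hk.1)) (inv_mem hk'.1)
    -- `k k' = v k''` with `v` fixed, so the commutator is fixed
    obtain ⟨v, k'', hv, hvt, hk'', e⟩ := InvertedSet.exists_decomp (odd_D P hu huH hG)
      (inv_sq_one hu) (fun y hy => conj_u_mem P hu hy) (mul_mem hk.1 hk'.1)
    have hv' := mul_inv_eq_iff_eq_mul.1 hvt
    have h1 : k⁻¹ * k'⁻¹ = v * k''⁻¹ := by
      calc k⁻¹ * k'⁻¹ = (u * k * u⁻¹) * (u * k' * u⁻¹) := by rw [hk.2, hk'.2]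
        _ = u * (k * k') * u⁻¹ := by group
        _ = (u * v * u⁻¹) * (u * k'' * u⁻¹) := by rw [e]; group
        _ = _ := by rw [hvt, hk''.2]
    have h2 : k' * k = v⁻¹ * k'' := by
      calc k' * k = (k⁻¹ * k'⁻¹)⁻¹ := by group
        _ = k'' * v⁻¹ := by rw [h1]; group
        _ = _ := ((hcen v⁻¹ (inv_mem hv) (Commute.inv_right (show Commute u v from hv')).eq k'' hk''.1).symm)
    have hw2 : w = v * v := by
      calc w = (k * k') * (k' * k)⁻¹ := by rw [hw]; group
        _ = v * v := by rw [e, h2]; group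
    have hwu : u * w = w * u := by
      rw [hw2]; exact ((show Commute u v from hv').mul_right hv').eq
    have h3 : k * k' * k⁻¹ = w * k' := by rw [hw]; group
    have h4 : w ^ (2 ^ n - 1) = 1 := by
      have h5 : (k * k' * k⁻¹) ^ (2 ^ n - 1) = 1 := by
        rw [conj_pow, (inv_iff P hu huH hG hk'.1).1 hk'.2, mul_one, mul_inv_cancel]
      rwa [h3, Commute.mul_pow (hcen w hwD hwu k' hk'.1), (inv_iff P hu huH hG hk'.1).1 hk'.2,
        mul_one] at h5
    have hw1 : w = 1 := orderOf_eq_one_iff.1 (Nat.eq_one_of_dvd_coprimes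
      (coprime_succ_pred hG.two_le) (orderOf_dvd_of_pow_eq_one ((mem_cent_iff P hu huH hG hs hsP hwD).1
        ((comm_iff P hu huH hG hs hsP hwD).1 hwu))) (orderOf_dvd_of_pow_eq_one h4))
    rw [hw1, one_mul] at h3
    exact mul_inv_eq_iff_eq_mul.1 h3
  obtain ⟨c, k, hc, hct, hk, rfl⟩ := InvertedSet.exists_decomp (odd_D P hu huH hG)
    (inv_sq_one hu) (fun z hz => conj_u_mem P hu hz) hx
  obtain ⟨c', k', hc', hct', hk', rfl⟩ := InvertedSet.exists_decomp (odd_D P hu huH hG)
    (inv_sq_one hu) (fun z hz => conj_u_mem P hu hz) hy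
  have e1 := hcen c hc (mul_inv_eq_iff_eq_mul.1 hct) _ (mul_mem hc' hk'.1)
  have e2 := hcen c' hc' (mul_inv_eq_iff_eq_mul.1 hct') k hk.1
  have e3 := hinv k hk k' hk'
  calc c * k * (c' * k') = c * ((k * c') * k') := by group
    _ = c * ((c' * k) * k') := by rw [e2]
    _ = c * (c' * (k * k')) := by group
    _ = c * (c' * (k' * k)) := by rw [e3]
    _ = (c * (c' * k')) * k := by group
    _ = (c' * k') * c * k := by rw [e1]
    _ = _ := by group

end Cfsg.Agent.Involutions.RankOne.PGU3
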